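import Cfsg.Agent.BW.Def
import Cfsg.Agent.H4.Mat

/-! Brauer-Suzuki-Wall, piece Z2: from coordinates to `PSL₂`. -/

set_option autoImplicit false
set_option linter.unusedSectionVars false

namespace Cfsg.Agent.BW

open Subgroup Matrix
open scoped Classical MatrixGroups

universe u
variable {G : Type u} [Group G] [Finite G] {w : G}

namespace Z2

variable {F : Type} [Field F]

/-- the Moebius action of `SL₂` -/
noncomputable def psi (F : Type) [Field F] : SL(2, F) →* Equiv.Perm (Option F) :=
  (MulAction.toPermHom (GL (Fin 2) F) (OnePoint F)).comp Matrix.SpecialLinearGroup.toGL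

theorem psi_none (g : SL(2, F)) :
    psi F g none = if g 1 0 = 0 then none else some (g 0 0 / g 1 0) :=
  OnePoint.smul_infty_eq_ite (Matrix.SpecialLinearGroup.toGL g)

theorem psi_some (g : SL(2, F)) (x : F) : psi F g (some x) =
    if g 1 0 * x + g 1 1 = 0 then none else some ((g 0 0 * x + g 0 1) / (g 1 0 * x + g 1 1)) :=
  OnePoint.smul_some_eq_ite (g := Matrix.SpecialLinearGroup.toGL g)

theorem ker_psi : (psi F).ker = center SL(2, F) := by
  ext g
  have hd : g 0 0 * g 1 1 - g 0 1 * g 1 0 = 1 := by rw [← det_fin_two]; exact g.det_coe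
  rw [MonoidHom.mem_ker, Matrix.SpecialLinearGroup.mem_center_iff]
  constructor
  · intro h
    have h1 := psi_none g
    have h2 := psi_some g 0
    have h3 := psi_some g 1
    rw [h, Equiv.Perm.one_apply] at h1 h2 h3
    have e1 : g 1 0 = 0 := by
      by_contra hc
      simp [hc] at h1
    have e2 : g 1 1 ≠ 0 := fun e => by simp [e1, e] at hd
    have e3 : g 0 1 = 0 := by simpa [e2] using h2.symm
    have e4 : g 0 0 = g 1 1 := by
      simp only [e1, e3, zero_mul, zero_add, e2, if_false, mul_one, add_zero,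
        Option.some.injEq] at h3
      exact (div_eq_one_iff_eq e2).1 h3.symm
    refine ⟨g 1 1, by rw [e1, e4] at hd; simpa [pow_two] using hd, ?_⟩
    ext i j
    fin_cases i <;> fin_cases j <;> simp [e1, e3, e4]
  · rintro ⟨r, -, hr⟩
    have e : ∀ i j, g i j = scalar (Fin 2) r i j := fun i j => by rw [hr]
    have e2 : r ≠ 0 := fun e0 => by simp [e, e0] at hd
    ext1 x
    cases x with
    | none => simp [psi_none, e]
    | some x => simp [psi_some, e, e2]

theorem card_SL2 [Fintype F] : Nat.card SL(2, F) = Fintype.card F * (Fintype.card F ^ 2 - 1) := by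
  have h1 := Fintype.one_lt_card (α := F)
  refine Nat.eq_of_mul_eq_mul_right (by omega : 0 < Fintype.card F - 1) ?_
  rw [H4.card_SL_mul, Matrix.card_GL_field, Fin.prod_univ_two]
  simp only [Fin.val_zero, pow_zero, Fin.val_one, pow_one]
  rw [pow_two, ← Nat.mul_sub_one (Fintype.card F)]; ring

theorem card_PSL2 [Fintype F] (ho : Odd (Fintype.card F)) :
    2 * Nat.card (Matrix.ProjectiveSpecialLinearGroup (Fin 2) F) =
      Fintype.card F * (Fintype.card F ^ 2 - 1) := by
  have h2 : (2 : F) ≠ 0 := fun e => by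
    obtain ⟨m, hm⟩ := ho
    have := FiniteField.cast_card_eq_zero F
    rw [hm] at this
    push_cast at this
    rw [e] at this
    simp at this
  rw [← card_SL2, H4.card_SL_eq_PSL_mul, mul_comm]
  congr 1
  refine le_antisymm ?_ (H4.card_center_SL_le 2 F)
  refine Finite.one_lt_card_iff_nontrivial.mpr ((Subgroup.nontrivial_iff_exists_ne_one _).mpr
    ⟨-1, Subgroup.mem_center_iff.mpr (by simp), fun e => h2 ?_⟩)
  have := congrArg (fun g : SL(2, F) => g 0 0) e
  have h3 : (-1 : F) = 1 := by simpa using this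
  linear_combination -h3

theorem exists_SL (a b c d : F) (h : a * d - b * c = 1) :
    ∃ g : SL(2, F), g 0 0 = a ∧ g 0 1 = b ∧ g 1 0 = c ∧ g 1 1 = d :=
  ⟨⟨!![a, b; c, d], by rw [det_fin_two_of, h]⟩, rfl, rfl, rfl, rfl⟩

theorem aff_mem {σ : Equiv.Perm (Option F)} {a c : F} (ha : a ≠ 0) (h1 : σ none = none)
    (h2 : ∀ x, σ (some x) = some (a ^ 2 * x + c)) : σ ∈ (psi F).range := by
  obtain ⟨g, e1, e2, e3, e4⟩ := exists_SL a (c / a) 0 a⁻¹ (by simp [ha])
  refine ⟨g, ?_⟩
  ext1 x
  cases x with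
  | none => rw [psi_none, h1, if_pos e3]
  | some x =>
    rw [psi_some, h2, e1, e2, e3, e4, zero_mul, zero_add, if_neg (inv_ne_zero ha)]
    congr 1
    field_simp

theorem w_mem {σ : Equiv.Perm (Option F)} {α b : F} (hb : b ≠ 0) (hα : -α = b ^ 2)
    (h0 : σ none = some 0) (h1 : σ (some 0) = none)
    (h2 : ∀ x, x ≠ 0 → σ (some x) = some (α / x)) : σ ∈ (psi F).range := by
  have e : α = -b ^ 2 := by rw [← hα, neg_neg]
  obtain ⟨g, e1, e2, e3, e4⟩ := exists_SL 0 (-b) b⁻¹ 0 (by simp [hb])
  refine ⟨g, ?_⟩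
  ext1 x
  cases x with
  | none => rw [psi_none, h0, e1, e3, if_neg (inv_ne_zero hb), zero_div]
  | some x =>
    rw [psi_some, e1, e2, e3, e4, add_zero, zero_mul, zero_add]
    by_cases hx : x = 0
    · rw [hx, h1, mul_zero, if_pos rfl]
    · rw [h2 x hx, e, if_neg (mul_ne_zero (inv_ne_zero hb) hx)]
      congr 1
      field_simp

end Z2

open Z2 in
theorem Z2_main {F : Type} [Field F] [Fintype F] {φ : G →* Equiv.Perm (Option F)} {α : F}
    (h : Coord F φ w α) (hc : 2 * Nat.card G = Fintype.card F * (Fintype.card F ^ 2 - 1))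
    (ho : Odd (Fintype.card F)) :
    Nonempty (G ≃* Matrix.ProjectiveSpecialLinearGroup (Fin 2) F) := by
  have h1 : ∀ g, φ g none = none → φ g ∈ (psi F).range := fun g hg => by
    obtain ⟨a, c, ha, e⟩ := h.aff g hg
    exact aff_mem ha hg e
  obtain ⟨b, hb, hα⟩ := h.sq
  have h2 : φ w ∈ (psi F).range := w_mem hb hα h.w0 h.w1 h.wx
  have h3 : φ.range ≤ (psi F).range := by
    rintro _ ⟨g, rfl⟩
    cases e : φ g none with
    | none => exact h1 g e
    | some c =>
      obtain ⟨n, hn, hn'⟩ := h.tr (-c)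
      have h4 := h1 (w * n * g) (by
        rw [map_mul, map_mul, Equiv.Perm.mul_apply, Equiv.Perm.mul_apply, e, hn', add_neg_cancel,
          h.w1])
      rw [map_mul, map_mul] at h4
      simpa [mul_assoc] using mul_mem (inv_mem (mul_mem h2 (h1 n hn))) h4
  let e1 : G ≃* φ.range := MonoidHom.ofInjective h.inj
  let e2 : Matrix.ProjectiveSpecialLinearGroup (Fin 2) F ≃* (psi F).range :=
    (QuotientGroup.quotientMulEquivOfEq ker_psi.symm).trans
      (QuotientGroup.quotientKerEquivRange (psi F))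
  have h5 : φ.range = (psi F).range := by
    refine eq_of_le_of_card_ge h3 (le_of_eq ?_)
    rw [← Nat.card_congr e1.toEquiv, ← Nat.card_congr e2.toEquiv]
    have := card_PSL2 ho
    omega
  exact ⟨e1.trans ((MulEquiv.subgroupCongr h5).trans e2.symm)⟩

end Cfsg.Agent.BW
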