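import Cfsg.Agent.BW.A0
import Cfsg.Agent.FT.Main

/-! Brauer-Suzuki-Wall, piece AM: the case `q = 2k - 1`. -/

set_option autoImplicit false
set_option linter.unusedSectionVars false

namespace Cfsg.Agent.BW

open Subgroup Cfsg.Agent.FT
open scoped Classical

universe u
variable {G : Type u} [Group G] [Finite G]
variable {K A : Subgroup G} {t s z a y : G} {m : ℕ}

namespace AM

theorem nb_cj (g z : G) : nb (g * z * g⁻¹) = nb z := by
  refine (Nat.card_congr ((MulAut.conj g).toEquiv.subtypeEquiv fun b => ?_)).symm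
  have e : ∀ x : G, orderOf (g * x * g⁻¹) = orderOf x := fun x =>
    (MulAut.conj g).orderOf_eq x
  change _ ↔ orderOf (g * b * g⁻¹) = 2 ∧ orderOf ((g * b * g⁻¹)⁻¹ * (g * z * g⁻¹)) = 2
  rw [e, show (g * b * g⁻¹)⁻¹ * (g * z * g⁻¹) = g * (b⁻¹ * z) * g⁻¹ by group, e]

theorem zs_cj (hz : z ∈ Zs K) (g : G) : g * z * g⁻¹ ∈ Zs K := fun h x hx h1 e =>
  hz (g⁻¹ * h) x hx h1 (by
    rw [show g⁻¹ * h * x * (g⁻¹ * h)⁻¹ = g⁻¹ * (h * x * h⁻¹) * g by group, e]; group)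

theorem one_mem_zs : (1 : G) ∈ Zs K := fun g x _ h1 e => h1 (by simpa using e)

theorem cj_ne_one (h : z ≠ 1) (g : G) : g * z * g⁻¹ ≠ 1 := fun e => h (by simpa using e)

/-- the non-real part of `Zs K` -/
def Z0 (K : Subgroup G) : Set G := {z | z ∈ Zs K ∧ z ≠ 1 ∧ nb z = 0}

theorem Z0_cj (hz : z ∈ Z0 K) (g : G) : g * z * g⁻¹ ∈ Z0 K :=
  ⟨zs_cj hz.1 g, cj_ne_one hz.2.1 g, (nb_cj g z).trans hz.2.2⟩

theorem counts (h : Hyp K t s) (hp : Minus K) (hm : ♯K = m + 1) :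
    Nat.card G = (m + 1) * (2 * m + 1) * (2 * m) ∧
    (∀ z ∈ Zs K, z ≠ 1 → nb z ≠ 0 → nb z = m) ∧
    (els {z | z ∈ Zs K ∧ z ≠ 1 ∧ nb z ≠ 0}).card + (2 * m + 1) = (2 * m + 1) * m ^ 2 ∧
    (Z0 K).ncard + 1 = (2 * m + 1) ^ 2 := by
  obtain ⟨cG, hd, h3⟩ := hp
  have c1 := A0_cardZc h
  have c2 := A0_nb1 h
  have c3 := A0_sum (G := G)
  have h4 := h.four
  rw [hm] at cG hd h3 c1 c2 h4
  rw [show 2 * (m + 1) - 1 = 2 * m + 1 by omega, show 2 * (m + 1) - 2 = 2 * m by omega] at cG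
  rw [Nat.add_sub_cancel] at hd h3 c1
  have e1 : (els (Zs K)ᶜ).card = (2 * m + 1) * m ^ 2 :=
    Nat.eq_of_mul_eq_mul_left (show 0 < 2 * (m + 1) by omega) (by rw [c1, cG]; ring)
  have e2 : nb (1 : G) = (2 * m + 1) * m :=
    Nat.eq_of_mul_eq_mul_left (show 0 < 2 * (m + 1) by omega) (by rw [c2, cG]; ring)
  have hsplit : ∀ f : G → ℕ, ∑ z ∈ els (Set.univ : Set G), f z =
      f 1 + ∑ z ∈ (els (Zs K)).erase 1, f z + ∑ z ∈ els (Zs K)ᶜ, f z := fun f => by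
    rw [Finset.add_sum_erase _ _ (mem_els.2 one_mem_zs),
      ← Finset.sum_filter_add_sum_filter_not (els (Set.univ : Set G)) (· ∈ Zs K)]
    congr 1 <;> refine Finset.sum_congr ?_ fun _ _ => rfl <;> ext x <;> simp
  have e3 : ∑ z ∈ els (Zs K)ᶜ, nb z = (2 * m + 1) * m ^ 2 * (m + 1) := by
    rw [Finset.sum_congr (s₁ := els (Zs K)ᶜ) rfl fun z hz =>
      (A0_nbK h (mem_els.1 hz)).trans hm, Finset.sum_const, e1, smul_eq_mul]
  have e4 := hsplit fun _ => 1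
  simp only [Finset.sum_const, smul_eq_mul, mul_one] at e4
  rw [e1, card_els', Set.ncard_univ, cG] at e4
  rw [hsplit, e3, e2] at c3
  rw [← Finset.add_sum_erase _ _ (mem_els.2 one_mem_zs), e1, e2, cG] at h3
  set S := (els (Zs K)).erase 1 with hS
  have hSm : ∀ z, z ∈ S ↔ z ∈ Zs K ∧ z ≠ 1 := fun z => by simp [hS, and_comm]
  have e5 : ∑ z ∈ S, m * nb z = ∑ z ∈ S, nb z ^ 2 := by
    rw [← Finset.mul_sum]
    zify at c3 h3 ⊢
    linear_combination (m : ℤ) * c3 - h3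
  have e6 : ∀ z ∈ S, nb z ≠ 0 → nb z = m := fun z hz h0 => by
    have := (Finset.sum_eq_sum_iff_of_le fun z hz => ?_).1 e5 z hz
    · rw [sq] at this
      exact (Nat.eq_of_mul_eq_mul_right (Nat.pos_of_ne_zero h0) this).symm
    · rcases Nat.eq_zero_or_pos (nb z) with h1 | h1
      · simp [h1]
      · rw [sq]
        exact Nat.mul_le_mul_right _ (Nat.le_of_dvd h1 (hd z ((hSm z).1 hz).1))
  have e7 : els {z | z ∈ Zs K ∧ z ≠ 1 ∧ nb z ≠ 0} = S.filter fun z => ¬ nb z = 0 := by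
    ext z; simp only [mem_els, Set.mem_ofPred_eq, Finset.mem_filter, hSm, and_assoc]
  have e8 : els (Z0 K) = S.filter fun z => nb z = 0 := by
    ext z; simp only [mem_els, Z0, Set.mem_ofPred_eq, Finset.mem_filter, hSm, and_assoc]
  have e9 : ∑ z ∈ S, nb z = (S.filter fun z => ¬ nb z = 0).card * m := by
    rw [← Finset.sum_filter_ne_zero, Finset.sum_congr rfl fun z hz =>
      e6 z (Finset.mem_filter.1 hz).1 (Finset.mem_filter.1 hz).2, Finset.sum_const, smul_eq_mul]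
  have e10 := Finset.card_filter_add_card_filter_not (s := S) fun z => nb z = 0
  rw [← card_els', e7, e8]
  have e11 : (S.filter fun z => ¬ nb z = 0).card + (2 * m + 1) = (2 * m + 1) * m ^ 2 := by
    refine Nat.eq_of_mul_eq_mul_left (show 0 < m by omega) ?_
    rw [e9] at c3
    zify at c3 ⊢
    linear_combination c3
  refine ⟨cG, fun z h1 h2 => e6 z ((hSm z).2 ⟨h1, h2⟩), e11, ?_⟩
  zify at e4 e10 e11 ⊢
  linear_combination e10 - e11 - e4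

/-- the data after the counting step -/
structure Ctx (K : Subgroup G) (t s : G) (m : ℕ) (A : Subgroup G) (a : G) : Prop where
  h : Hyp K t s
  cK : ♯K = m + 1
  cG : Nat.card G = (m + 1) * (2 * m + 1) * (2 * m)
  cA : ♯A = m
  cNA : ♯𝐍(A) = 2 * m
  centA : ∀ x ∈ A, x ≠ 1 → 𝐂[x] = A ∧ nb x ≠ 0
  tiA : ∀ g : G, ∀ x ∈ A, x ≠ 1 → g * x * g⁻¹ ∈ A → g ∈ 𝐍(A)
  hall : Nat.Coprime ♯A A.index
  a2 : orderOf a = 2
  ainv : ∀ x ∈ A, a * x * a⁻¹ = x⁻¹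
  cZ : (Z0 K).ncard + 1 = (2 * m + 1) ^ 2

theorem le_cj_of_hall {r : ℕ} [Fact r.Prime] (hA : ¬ r ∣ A.index) {R : Subgroup G}
    (hR : IsPGroup r R) : ∃ g : G, R ≤ cj g A := by
  obtain ⟨P, hP⟩ := exists_syl r A
  have h2 : Syl r P ⊤ := Syl.trans hP le_top (by rwa [relIndex_top_right])
  obtain ⟨g, -, hg⟩ := Syl.exists_le_cj h2 hR le_top
  exact ⟨g, hg.trans (cj_mono g hP.le)⟩

theorem zp_pgroup {r : ℕ} [Fact r.Prime] (hy : orderOf y = r) : IsPGroup r (zpowers y) :=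
  IsPGroup.iff_card.2 ⟨1, by rw [Nat.card_zpowers, hy, pow_one]⟩

theorem exists_order {r : ℕ} (hr : r.Prime) {H : Subgroup G} (hd : r ∣ ♯H) :
    ∃ y ∈ H, orderOf y = r := by
  have := Fact.mk hr
  obtain ⟨y, hy⟩ := exists_prime_orderOf_dvd_card' (G := H) r hd
  exact ⟨y, y.2, by rw [orderOf_coe, hy]⟩

theorem ne_one_of_order {r : ℕ} (hr : r.Prime) (hy : orderOf y = r) : y ≠ 1 := by
  rintro rfl
  exact hr.one_lt.ne (orderOf_one.symm.trans hy)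

theorem exists_ctx (h : Hyp K t s) (hp : Minus K) (hm : ♯K = m + 1) :
    ∃ (A : Subgroup G) (a : G), Ctx K t s m A a := by
  obtain ⟨cG, h1, h2, h3⟩ := counts h hp hm
  have h4 := h.four
  rw [hm] at h4
  have hpos : 0 < (els {z | z ∈ Zs K ∧ z ≠ 1 ∧ nb z ≠ 0}).card := by
    by_contra h0
    have : (2 * m + 1) * 1 < (2 * m + 1) * m ^ 2 :=
      Nat.mul_lt_mul_of_pos_left (by nlinarith) (by omega)
    omega
  obtain ⟨z, hz⟩ := Finset.card_pos.1 hpos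
  obtain ⟨z1, z2, z3⟩ := mem_els.1 hz
  obtain ⟨A, C, a, eA, r1, r2, r3, r4, r5, r6, r7, r8, r9, r10, r11, r12⟩ := A0_real h z1 z2 z3
  have cA : ♯A = m := r1.symm.trans (h1 z z1 z2 z3)
  have hset : {y | ∃ g : G, ∃ x ∈ A, x ≠ 1 ∧ g * x * g⁻¹ = y} =
      {z | z ∈ Zs K ∧ z ≠ 1 ∧ nb z ≠ 0} := by
    ext y
    constructor
    · rintro ⟨g, x, hx, x1, rfl⟩
      refine ⟨zs_cj (A0_centZ h z1 z2 (mem_cent1_iff.1 (eA ▸ hx))) g, cj_ne_one x1 g, ?_⟩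
      rw [nb_cj, (r2 x hx x1).2]; exact z3
    · rintro ⟨y1, y2, y3⟩
      obtain ⟨B, -, -, eB, s1, s2, -⟩ := A0_real h y1 y2 y3
      have cB : ♯B = m := s1.symm.trans (h1 y y1 y2 y3)
      obtain ⟨r, hr, hd⟩ := Nat.exists_prime_and_dvd (show m ≠ 1 by omega)
      have := Fact.mk hr
      obtain ⟨x, hx, ox⟩ := exists_order hr (cB ▸ hd : r ∣ ♯B)
      have x1 := ne_one_of_order hr ox
      obtain ⟨g, hg⟩ := le_cj_of_hall (A := A) (fun hd' => hr.one_lt.ne'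
        (Nat.eq_one_of_dvd_coprimes r3 (cA ▸ hd) hd')) (zp_pgroup ox)
      have hx2 := mem_cj.1 (hg (mem_zpowers x))
      have x2 : g⁻¹ * x * g ≠ 1 := by simpa using cj_ne_one x1 g⁻¹
      have hy : y ∈ 𝐂[x] := by rw [(s2 x hx x1).1, eB]; exact mem_cent1_self y
      refine ⟨g, g⁻¹ * y * g, ?_, by simpa using cj_ne_one y2 g⁻¹, by group⟩
      rw [← (r2 _ hx2 x2).1, mem_cent1_iff]
      rw [mem_cent1_iff] at hy
      rw [show g⁻¹ * y * g * (g⁻¹ * x * g) = g⁻¹ * (y * x) * g by group, hy]; group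
  rw [hset, cA, cG] at r12
  have hC : ♯C = 2 := by
    obtain ⟨j, rfl⟩ : ∃ j, m = j + 1 := ⟨m - 1, by omega⟩
    have e : (els {z | z ∈ Zs K ∧ z ≠ 1 ∧ nb z ≠ 0}).card = (2 * j + 3) * j * (j + 2) := by
      zify at h2 ⊢
      linear_combination h2
    rw [e, Nat.add_sub_cancel] at r12
    refine Nat.eq_of_mul_eq_mul_left (show 0 < (j + 1) * ((2 * j + 3) * j * (j + 2)) by
      have : 0 < j := by omega
      positivity) ?_
    zify at r12 ⊢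
    linear_combination r12
  exact ⟨A, a, h, hm, cG, cA, by rw [r10, cA, hC, mul_comm],
    fun x hx x1 => ⟨(r2 x hx x1).1, by rw [(r2 x hx x1).2]; exact z3⟩, r11, r3, r5, r6, h3⟩

theorem pclosed {p : ℕ} [Fact p.Prime] {N : Subgroup G} (hs : Group.IsSolvable N)
    (hR : ∀ (r : ℕ) [Fact r.Prime], r ≠ p → ∀ R : Subgroup G, IsPGroup r R → R ≠ ⊥ → R ≤ N →
      ¬ p ∣ ♯(N ⊓ 𝐍(R) : Subgroup G)) : Syl p (core {p} N) N := by
  have hO := core_nrm {p} N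
  by_cases h0 : bar (core {p} N) N = ⊥
  · have := le_antisymm hO.le ((bar_eq_bot_iff hO.norm).1 h0)
    rw [this]
    exact Syl.refl (this ▸ core_isPGroup N)
  have h1 := fit_ne_bot (isSolvable_bar hs (core {p} N)) h0
  obtain ⟨r, hr, h2⟩ : ∃ (r : ℕ) (_ : Fact r.Prime), core {r} (bar (core {p} N) N) ≠ ⊥ := by
    by_contra h
    push Not at h
    exact h1 (le_bot_iff.1 (fit_le_of_forall_pcore fun q hq => (h q hq).le))
  have hrp : r ≠ p := by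
    rintro rfl
    exact h2 (core_bar_core _ _)
  have hL := nrm_unbar_of_nrm_bar hO (core_nrm {r} (bar (core {p} N) N))
  obtain ⟨R, hRL⟩ := exists_syl r (unbar (core {p} N) (core {r} (bar (core {p} N) N)))
  have e1 := Syl.bar hRL (unbar_le _)
  rw [bar_unbar] at e1
  have e2 := e1.eq_of_le (core_isPGroup _) e1.le le_rfl
  have hRn := hRL.le.trans (unbar_le _)
  have e3 := unbar_bar hRn
  rw [← e2] at e3
  have e4 := Syl.frattini' hRL hL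
  have hRN : R ≤ N ⊓ 𝐍(R) := le_inf (hRL.le.trans hL.le) le_normalizer
  rw [e3, sup_comm R, sup_assoc, sup_of_le_right hRN] at e4
  have hR0 : R ≠ ⊥ := by
    rintro rfl
    exact h2 (e2.trans (bar_bot _))
  refine ⟨hO.le, core_isPGroup N, fun hd => hR r hrp R hRL.isPGroup hR0 (hRL.le.trans hL.le) ?_⟩
  have e5 := card_bar hO.norm
  have e6 := bar_self_sup (inf_le_left.trans hO.norm : N ⊓ 𝐍(R) ≤ _)
  rw [e4] at e6
  rw [← e5, e6] at hd
  exact hd.trans (card_bar_dvd _ _)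

theorem syl_uniq {p : ℕ} [Fact p.Prime]
    (hN : ∀ D : Subgroup G, IsPGroup p D → D ≠ ⊥ → Syl p (core {p} 𝐍(D)) 𝐍(D)) (n : ℕ) :
    ∀ D P₁ P₂ : Subgroup G, Nat.card G - ♯D = n → D ≠ ⊥ → Syl p P₁ ⊤ → Syl p P₂ ⊤ → D ≤ P₁ →
      D ≤ P₂ → P₁ = P₂ := by
  induction n using Nat.strong_induction_on with
  | _ n ih =>
  intro D P₁ P₂ hn h0 s1 s2 l1 l2
  have hD : IsPGroup p D := s1.isPGroup.to_le l1
  rcases l1.eq_or_lt with rfl | l1'
  · exact (s1.eq_of_le s2.isPGroup l2 le_top).symm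
  rcases l2.eq_or_lt with rfl | l2'
  · exact s2.eq_of_le s1.isPGroup l1 le_top
  obtain ⟨P₃, s3, l3⟩ := exists_syl_ge (core_isPGroup (p := p) 𝐍(D)) le_top
  have key : ∀ P : Subgroup G, Syl p P ⊤ → D < P → P = P₃ := fun P sP l => by
    have h1 := lt_inf_normalizer sP.isPGroup.isNilpotent l
    have h2 : P ⊓ 𝐍(D) ≤ core {p} 𝐍(D) := Syl.le_of_nrm (hN D hD h0) (core_nrm _ _).norm
      sP.isPGroup.to_inf_left inf_le_right
    have h3 := card_lt_of_lt h1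
    have h4 := card_le_card_group (P ⊓ 𝐍(D))
    exact ih _ (by omega) (P ⊓ 𝐍(D)) P P₃ rfl (ne_bot_of_gt h1) sP s3 inf_le_left (h2.trans l3)
  rw [key P₁ s1 l1', key P₂ s2 l2']

namespace Ctx

variable (c : Ctx K t s m A a)
include c

theorem m3 : 3 ≤ m := by have := c.h.four; rw [c.cK] at this; omega

theorem cent_Z0 (hz : z ∈ Z0 K) (hy : y ∈ 𝐂[z]) (h1 : y ≠ 1) : y ∈ Z0 K := by
  have y1 := A0_centZ c.h hz.1 hz.2.1 (mem_cent1_iff.1 hy)
  refine ⟨y1, h1, by_contra fun h0 => ?_⟩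
  obtain ⟨B, -, -, eB, -, s2, -⟩ := A0_real c.h y1 h1 h0
  exact h0 ((s2 z (eB ▸ mem_cent1_comm.1 hy) hz.2.1).2.symm.trans hz.2.2)

theorem inv_Z0 (hz : z ∈ Z0 K) : z⁻¹ ∈ Z0 K :=
  c.cent_Z0 hz (inv_mem (mem_cent1_self z)) (inv_ne_one.2 hz.2.1)

theorem order_ne (hz : z ∈ Z0 K) : orderOf z ≠ 2 := fun h => by
  obtain ⟨g, hg⟩ := isConj_iff.1 (c.h.conj z h)
  exact hz.1 g t c.h.tK (ne_one_of_order Nat.prime_two c.h.t2) hg

theorem cover {r : ℕ} [hr : Fact r.Prime] (h2 : r ≠ 2) (hd : r ∣ (m + 1) * (2 * m))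
    {R : Subgroup G} (hR : IsPGroup r R) : ∃ g : G, R ≤ cj g K ∨ R ≤ cj g A := by
  have n2 : ¬ r ∣ 2 := fun h => h2 ((Nat.prime_dvd_prime_iff_eq hr.out Nat.prime_two).1 h)
  have n1 : ¬ r ∣ 1 := fun h => hr.out.one_lt.ne' (Nat.dvd_one.1 h)
  by_cases hm : r ∣ m
  · obtain ⟨g, hg⟩ := le_cj_of_hall (A := A) (fun hd' => hr.out.one_lt.ne'
      (Nat.eq_one_of_dvd_coprimes c.hall (c.cA ▸ hm) hd')) hR
    exact ⟨g, Or.inr hg⟩
  have h3 : ¬ r ∣ 2 * m := fun h => ((Nat.Prime.dvd_mul hr.out).1 h).elim n2 hm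
  have h4 : r ∣ m + 1 := ((Nat.Prime.dvd_mul hr.out).1 hd).resolve_right h3
  have e : K.index = (2 * m + 1) * (2 * m) := by
    have := K.card_mul_index
    rw [c.cK, c.cG, mul_assoc] at this
    exact Nat.eq_of_mul_eq_mul_left (by omega) this
  obtain ⟨g, hg⟩ := le_cj_of_hall (A := K) (fun hd' => by
    rw [e] at hd'
    rcases (Nat.Prime.dvd_mul hr.out).1 hd' with h | h
    · have := Nat.dvd_sub (h4.mul_left 2) h
      rw [show 2 * (m + 1) - (2 * m + 1) = 1 by omega] at this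
      exact n1 this
    · exact h3 h) hR
  exact ⟨g, Or.inl hg⟩

theorem cop (hz : z ∈ Z0 K) : Nat.Coprime ♯𝐂[z] ((m + 1) * (2 * m)) := by
  refine Nat.coprime_of_dvd fun r hr h1 h2 => ?_
  have := Fact.mk hr
  obtain ⟨y, hy, oy⟩ := exists_order hr h1
  have y1 := ne_one_of_order hr oy
  have y0 := c.cent_Z0 hz hy y1
  obtain ⟨g, hg⟩ := c.cover (fun h => c.order_ne y0 (oy.trans h)) h2 (zp_pgroup oy)
  have y2 : g⁻¹ * y * g ≠ 1 := by simpa using cj_ne_one y1 g⁻¹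
  rcases hg with hg | hg
  · exact y0.1 g _ (mem_cj.1 (hg (mem_zpowers y))) y2 (by group)
  · refine (c.centA _ (mem_cj.1 (hg (mem_zpowers y))) y2).2 ?_
    simpa using (Z0_cj y0 g⁻¹).2.2

theorem cent_dvd (hz : z ∈ Z0 K) : ♯𝐂[z] ∣ 2 * m + 1 := by
  refine (c.cop hz).dvd_of_dvd_mul_left ?_
  rw [mul_right_comm, ← c.cG]
  exact card_subgroup_dvd_card _

theorem no_inv (hz : z ∈ Z0 K) {b : G} (hb : orderOf b = 2) : b * z * b⁻¹ ≠ z⁻¹ := fun e => by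
  have hb2 : b * b = 1 := by rw [← sq, ← hb, pow_orderOf_eq_one]
  have hbi : b⁻¹ = b := inv_eq_of_mul_eq_one_right hb2
  have : Nonempty {a : G // orderOf a = 2 ∧ orderOf (a⁻¹ * z) = 2} := by
    refine ⟨b, hb, orderOf_eq_prime ?_ fun h => ?_⟩
    · rw [hbi] at e ⊢
      rw [sq, ← mul_assoc, e, inv_mul_cancel]
    · rw [inv_mul_eq_one] at h
      exact c.order_ne hz (h ▸ hb)
  exact Nat.card_pos.ne' hz.2.2

theorem not_real (hz : z ∈ Z0 K) (g : G) : g * z * g⁻¹ ≠ z⁻¹ := fun e => by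
  have h1 : g ^ 2 ∈ 𝐂[z] := by
    rw [mem_cent1_iff, ← mul_inv_eq_iff_eq_mul]
    calc g ^ 2 * z * (g ^ 2)⁻¹ = g * (g * z * g⁻¹) * g⁻¹ := by rw [sq]; group
      _ = g * z⁻¹ * g⁻¹ := by rw [e]
      _ = (g * z * g⁻¹)⁻¹ := by group
      _ = z := by rw [e, inv_inv]
  obtain ⟨j, hj⟩ : Odd ♯𝐂[z] := Odd.of_dvd_nat ⟨m, rfl⟩ (c.cent_dvd hz)
  have h2 : (g ^ 2) ^ (2 * j + 1) = 1 := by
    rw [← hj]
    exact congrArg Subtype.val (pow_card_eq_one' (G := 𝐂[z]) (x := ⟨_, h1⟩))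
  have h3 : g * (g ^ 2) ^ j * z * (g * (g ^ 2) ^ j)⁻¹ = z⁻¹ := by
    rw [mul_assoc g, mem_cent1_iff.1 (pow_mem h1 j), ← e]; group
  refine c.no_inv hz (orderOf_eq_prime ?_ fun h => ?_) h3
  · rw [← h2]; group
  · rw [h, one_mul, inv_one, mul_one, eq_inv_iff_mul_eq_one, ← sq] at h3
    exact c.order_ne hz (orderOf_eq_prime h3 hz.2.1)

omit c in
theorem card_cl (z : G) : (clsup {z} ⊤).ncard = (𝐂[z]).index := by
  have := card_clsup_normedTI (A := {z}) (G₀ := ⊤) (L := 𝐂[z]) ⟨⟨z, rfl⟩, le_top, by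
    rintro g hg _ rfl
    exact mul_inv_eq_iff_eq_mul.2 (mem_cent1_iff.1 hg), by
    rintro g - _ rfl h
    exact mem_cent1_iff.2 (mul_inv_eq_iff_eq_mul.1 h)⟩
  rwa [Set.ncard_singleton, one_mul, relIndex_top_right] at this

theorem classes (hz : z ∈ Z0 K) : ♯𝐂[z] = 2 * m + 1 ∧ ∀ y ∈ Z0 K, orderOf y = orderOf z := by
  have e1 : 𝐂[z⁻¹] = 𝐂[z] := by
    ext x
    rw [mem_cent1_comm, mem_cent1_comm (y := z), inv_mem_iff]
  have hsub : clsup {z} ⊤ ∪ clsup {z⁻¹} ⊤ ⊆ Z0 K := by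
    rintro _ (⟨_, rfl, g, -, rfl⟩ | ⟨_, rfl, g, -, rfl⟩)
    · exact Z0_cj hz g
    · exact Z0_cj (c.inv_Z0 hz) g
  have hdis : Disjoint (clsup {z} ⊤) (clsup {z⁻¹} ⊤) := by
    rw [Set.disjoint_left]
    rintro _ ⟨x, hx, g, -, rfl⟩ ⟨x', hx', g', -, e⟩
    rw [Set.mem_singleton_iff.1 hx, Set.mem_singleton_iff.1 hx'] at e
    refine c.not_real hz (g'⁻¹ * g) ?_
    rw [show g'⁻¹ * g * z * (g'⁻¹ * g)⁻¹ = g'⁻¹ * (g * z * g⁻¹) * g' by group, ← e]; group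
  have e2 := Set.ncard_union_eq hdis
  rw [card_cl, card_cl, e1] at e2
  have e3 := Set.ncard_le_ncard hsub
  obtain ⟨d, hd⟩ := c.cent_dvd hz
  have e4 := (𝐂[z]).card_mul_index
  have e5 := c.cZ
  have h3 := c.m3
  have e6 : (𝐂[z]).index = d * ((m + 1) * (2 * m)) := by
    refine Nat.eq_of_mul_eq_mul_left (card_pos' 𝐂[z]) ?_
    rw [e4, c.cG, hd]; ring
  have e7 : (Z0 K).ncard = 2 * ((m + 1) * (2 * m)) := by
    zify at e5 ⊢
    linear_combination e5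
  have d1 : d = 1 := by
    have : d ≠ 0 := by rintro rfl; omega
    have h5 : 0 < (m + 1) * (2 * m) := by positivity
    by_contra h
    have : 2 * ((m + 1) * (2 * m)) ≤ d * ((m + 1) * (2 * m)) := Nat.mul_le_mul_right _ (by omega)
    omega
  subst d1
  refine ⟨by omega, fun y hy => ?_⟩
  rw [← Set.eq_of_subset_of_ncard_le hsub (by omega)] at hy
  rcases hy with ⟨_, rfl, g, -, rfl⟩ | ⟨_, rfl, g, -, rfl⟩
  · exact (MulAut.conj g).orderOf_eq _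
  · exact ((MulAut.conj g).orderOf_eq _).trans (orderOf_inv _)

theorem exists_p : ∃ (p : ℕ) (z : G), p.Prime ∧ z ∈ Z0 K ∧ ∀ y ∈ Z0 K, orderOf y = p := by
  have h3 := c.m3
  obtain ⟨z, hz⟩ : (Z0 K).Nonempty := Set.nonempty_of_ncard_ne_zero fun h => by
    have := c.cZ
    rw [h] at this
    nlinarith
  obtain ⟨p, hp, hd⟩ := Nat.exists_prime_and_dvd (show 2 * m + 1 ≠ 1 by omega)
  obtain ⟨y, hy, oy⟩ := exists_order hp ((c.classes hz).1 ▸ hd : p ∣ ♯𝐂[z])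
  have y0 := c.cent_Z0 hz hy (ne_one_of_order hp oy)
  exact ⟨p, y, hp, y0, fun x hx => ((c.classes y0).2 x hx).trans oy⟩

variable {p : ℕ} [hp : Fact p.Prime] (ho : ∀ y ∈ Z0 K, orderOf y = p)
include ho

theorem p_dvd (hz : z ∈ Z0 K) : p ∣ ♯𝐂[z] :=
  ho z hz ▸ orderOf_dvd_card' (mem_cent1_self z)

theorem p_ndvd (hz : z ∈ Z0 K) : ¬ p ∣ (m + 1) * (2 * m) := fun h =>
  hp.out.one_lt.ne' (Nat.eq_one_of_dvd_coprimes (c.cop hz) (c.p_dvd ho hz) h)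

theorem syl_cent (hz : z ∈ Z0 K) : Syl p 𝐂[z] ⊤ := by
  refine ⟨le_top, fun ⟨y, hy⟩ => ⟨1, Subtype.ext ?_⟩, fun h => c.p_ndvd ho hz ?_⟩
  · change y ^ p ^ 1 = 1
    by_cases h1 : y = 1
    · rw [h1, one_pow]
    · rw [pow_one, ← ho y (c.cent_Z0 hz hy h1), pow_orderOf_eq_one]
  · have e := (𝐂[z]).card_mul_index
    rw [(c.classes hz).1, c.cG, mul_comm (m + 1), mul_assoc] at e
    rwa [relIndex_top_right, Nat.eq_of_mul_eq_mul_left (by omega) e] at h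

theorem pelt (hz : z ∈ Z0 K) {D : Subgroup G} (hD : IsPGroup p D) (hy : y ∈ D) (h1 : y ≠ 1) :
    y ∈ Z0 K := by
  obtain ⟨g, -, hg⟩ := Syl.exists_le_cj (c.syl_cent ho hz) hD le_top
  have := Z0_cj (c.cent_Z0 hz (mem_cj.1 (hg hy)) (by simpa using cj_ne_one h1 g⁻¹)) g
  simpa [mul_assoc] using this

theorem no_inv_norm (hz : z ∈ Z0 K) {D : Subgroup G} (hD : IsPGroup p D) (h0 : D ≠ ⊥) {b : G}
    (hb : orderOf b = 2) : b ∉ 𝐍(D) := fun hn => by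
  obtain ⟨⟨y, hy⟩, y1⟩ := (D.ne_bot_iff_exists_ne_one).1 h0
  have y2 : y ≠ 1 := fun h => y1 (Subtype.ext h)
  have hb2 : b * b = 1 := by rw [← sq, ← hb, pow_orderOf_eq_one]
  have hbi : b⁻¹ = b := inv_eq_of_mul_eq_one_right hb2
  have h1 : y⁻¹ * (b * y * b⁻¹) ∈ D := mul_mem (inv_mem hy) (conj_mem_of_mem_normalizer hn hy)
  refine c.no_inv (c.pelt ho hz hD h1 fun h => ?_) hb ?_
  · rw [inv_mul_eq_one, eq_mul_inv_iff_mul_eq] at h
    exact c.order_ne (c.cent_Z0 (c.pelt ho hz hD hy y2) (mem_cent1_iff.2 h.symm)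
      (ne_one_of_order Nat.prime_two hb)) hb
  · calc b * (y⁻¹ * (b * y * b⁻¹)) * b⁻¹ = b * y⁻¹ * (b * y * (b * b)⁻¹) := by group
      _ = (y⁻¹ * (b * y * b⁻¹))⁻¹ := by
        rw [hb2]
        nth_rewrite 2 [← hbi]
        group

theorem odd_norm (hz : z ∈ Z0 K) {D : Subgroup G} (hD : IsPGroup p D) (h0 : D ≠ ⊥) :
    Odd ♯𝐍(D) := by
  rw [← Nat.not_even_iff_odd, even_iff_two_dvd]
  intro h
  obtain ⟨b, hb, ob⟩ := exists_order Nat.prime_two h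
  exact c.no_inv_norm ho hz hD h0 ob hb

theorem cover' (hz : z ∈ Z0 K) {r : ℕ} [hr : Fact r.Prime] (h2 : r ≠ 2) (hrp : r ≠ p)
    {R : Subgroup G} (hR : IsPGroup r R) (h0 : R ≠ ⊥) : ∃ g : G, R ≤ cj g K ∨ R ≤ cj g A := by
  refine c.cover h2 ?_ hR
  have h1 := (dvd_card_of_isPGroup hR h0).trans (card_subgroup_dvd_card R)
  rw [c.cG, mul_right_comm] at h1
  refine ((Nat.Prime.dvd_mul hr.out).1 h1).resolve_right fun h => hrp ?_
  exact eq_of_isPGroup_of_dvd (c.syl_cent ho hz).isPGroup hr.out ((c.classes hz).1 ▸ h)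

omit hp ho in
theorem norm_le {R : Subgroup G} (h0 : R ≠ ⊥) {g : G} (h : R ≤ cj g A) : 𝐍(R) ≤ 𝐍(cj g A) := by
  intro y hy
  obtain ⟨⟨x, hx⟩, x1⟩ := (R.ne_bot_iff_exists_ne_one).1 h0
  have x2 : x ≠ 1 := fun h => x1 (Subtype.ext h)
  rw [← cj_normalizer, mem_cj]
  refine c.tiA _ _ (mem_cj.1 (h hx)) (by simpa using cj_ne_one x2 g⁻¹) ?_
  have := mem_cj.1 (h (conj_mem_of_mem_normalizer hy hx))
  simpa [mul_assoc] using this

theorem no_norm (hz : z ∈ Z0 K) {r : ℕ} [hr : Fact r.Prime] (h2 : r ≠ 2) (hrp : r ≠ p)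
    {R : Subgroup G} (hR : IsPGroup r R) (h0 : R ≠ ⊥) : ¬ p ∣ ♯𝐍(R) := fun hd => by
  obtain ⟨g, hg | hg⟩ := c.cover' ho hz h2 hrp hR h0
  · obtain ⟨y, hy, oy⟩ := exists_order hp.out hd
    obtain ⟨⟨x, hx⟩, x1⟩ := (R.ne_bot_iff_exists_ne_one).1 h0
    have x2 : x ≠ 1 := fun h => x1 (Subtype.ext h)
    have y0 := c.pelt ho hz (zp_pgroup oy) (mem_zpowers y) (ne_one_of_order hp.out oy)
    have := A0_ti c.h (g := g⁻¹ * y * g) (mem_cj.1 (hg hx)) (by simpa using cj_ne_one x2 g⁻¹) (by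
      simpa [mul_assoc] using mem_cj.1 (hg (conj_mem_of_mem_normalizer hy hx)))
    have y3 : g⁻¹ * y * g ∈ Z0 K := by simpa using Z0_cj y0 g⁻¹
    exact c.order_ne (c.cent_Z0 y3 (mem_cent1_iff.2 this.symm)
      (ne_one_of_order Nat.prime_two c.h.t2)) c.h.t2
  · have := hd.trans (card_dvd_of_le (c.norm_le h0 hg))
    rw [← cj_normalizer, card_cj, c.cNA] at this
    exact c.p_ndvd ho hz (this.mul_left _)

theorem cent_eq (hz : z ∈ Z0 K) (hy : y ∈ 𝐂[z]) (h1 : y ≠ 1) : 𝐂[y] = 𝐂[z] := by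
  have y0 := c.cent_Z0 hz hy h1
  refine syl_uniq (p := p) (fun D hD h0 => ?_) _ (zpowers y) _ _ rfl (by simpa using h1)
    (c.syl_cent ho y0) (c.syl_cent ho hz) ((zpowers_le (G := G)).2 (mem_cent1_self y))
    ((zpowers_le (G := G)).2 hy)
  have hodd := c.odd_norm ho hz hD h0
  refine pclosed (odd_order_solvable hodd) fun r _ hrp R hR hR0 hle hd => ?_
  refine c.no_norm ho hz (fun h => ?_) hrp hR hR0 (hd.trans (card_dvd_of_le inf_le_right))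
  subst h
  exact hodd.not_two_dvd_nat ((dvd_card_of_isPGroup hR hR0).trans (card_dvd_of_le hle))

theorem card_norm (hz : z ∈ Z0 K) : ♯𝐍(𝐂[z]) = (2 * m + 1) * m := by
  have h3 := c.m3
  have e1 := card_clsup_normedTI (A := sharp 𝐂[z]) (G₀ := ⊤) (L := 𝐍(𝐂[z]))
    ⟨⟨z, mem_cent1_self z, hz.2.1⟩, le_top,
      fun g hg x hx => ⟨conj_mem_of_mem_normalizer hg hx.1, cj_ne_one hx.2 g⟩,
      fun g _ x hx h => by
        rw [← cj_eq_iff_mem_normalizer]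
        conv_lhs => rw [← c.cent_eq ho hz hx.1 hx.2]
        rw [← c.cent_eq ho hz h.1 h.2]
        ext y
        rw [mem_cj, mem_cent1_iff, mem_cent1_iff]
        constructor
        · intro e
          calc y * (g * x * g⁻¹) = g * (g⁻¹ * y * g * x) * g⁻¹ := by group
            _ = _ := by rw [e]; group
        · intro e
          calc g⁻¹ * y * g * x = g⁻¹ * (y * (g * x * g⁻¹)) * g := by group
            _ = _ := by rw [e]; group⟩
  have e2 : clsup (sharp 𝐂[z]) ⊤ = Z0 K := by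
    ext y
    constructor
    · rintro ⟨x, hx, g, -, rfl⟩
      exact Z0_cj (c.cent_Z0 hz hx.1 hx.2) g
    · intro hy
      obtain ⟨g, -, hg⟩ := Syl.exists_le_cj (c.syl_cent ho hz) (zp_pgroup (ho y hy)) le_top
      exact ⟨g⁻¹ * y * g, ⟨mem_cj.1 (hg (mem_zpowers y)), by simpa using cj_ne_one hy.2.1 g⁻¹⟩,
        g, trivial, by group⟩
  have e3 := ncard_sharp 𝐂[z]
  have e4 := c.cZ
  have e5 := (𝐍(𝐂[z])).card_mul_index
  rw [(c.classes hz).1] at e3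
  rw [e2, relIndex_top_right, show (sharp 𝐂[z]).ncard = 2 * m by omega] at e1
  have e6 : (𝐍(𝐂[z])).index = 2 * (m + 1) := by
    refine Nat.eq_of_mul_eq_mul_left (show 0 < 2 * m by omega) ?_
    zify at e1 e4 ⊢
    linear_combination e4 - e1
  rw [e6, c.cG] at e5
  exact Nat.eq_of_mul_eq_mul_right (show 0 < 2 * (m + 1) by omega) (by rw [e5]; ring)

theorem exists_T (hz : z ∈ Z0 K) : ∃ g : G, cj g A ≤ 𝐍(𝐂[z]) := by
  have h3 := c.m3
  have hQ := c.syl_cent ho hz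
  have hQ0 : 𝐂[z] ≠ ⊥ := fun h => hz.2.1 (mem_bot.1 (h ▸ mem_cent1_self z))
  have hodd := c.odd_norm ho hz hQ.isPGroup hQ0
  have hs := odd_order_solvable hodd
  obtain ⟨T, hT⟩ := exists_hall {p}ᶜ hs
  have e1 := Hall.card_mul (Syl.hall (hQ.of_le le_normalizer le_top)) hT
  rw [c.card_norm ho hz, (c.classes hz).1] at e1
  have cT : ♯T = m := Nat.eq_of_mul_eq_mul_left (by omega) e1
  have hT0 : T ≠ ⊥ := by
    rintro rfl
    rw [card_bot] at cT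
    omega
  have h1 := fit_ne_bot (isSolvable_of_le hT.le hs) hT0
  obtain ⟨r, hr, h2⟩ : ∃ (r : ℕ) (_ : Fact r.Prime), core {r} T ≠ ⊥ := by
    by_contra h
    push Not at h
    exact h1 (le_bot_iff.1 (fit_le_of_forall_pcore fun q hq => (h q hq).le))
  have hR := core_isPGroup (p := r) T
  have hd : r ∣ m := cT ▸ (dvd_card_of_isPGroup hR h2).trans (card_dvd_of_le (core_le _ _))
  obtain ⟨g, hg⟩ := le_cj_of_hall (A := A) (fun hd' => hr.out.one_lt.ne'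
      (Nat.eq_one_of_dvd_coprimes c.hall (c.cA ▸ hd) hd')) hR
  have h4 : T ≤ 𝐍(cj g A) := (core_nrm _ _).norm.trans (c.norm_le h2 hg)
  have h5 : (cj g A).relIndex 𝐍(cj g A) = 2 := by
    have := card_mul_relIndex (le_normalizer : cj g A ≤ 𝐍(cj g A))
    rw [← cj_normalizer, card_cj, card_cj, c.cA, c.cNA, cj_normalizer, mul_comm 2] at this
    exact Nat.eq_of_mul_eq_mul_left (by omega) this
  have h6 : T ≤ cj g A := by
    refine le_of_coprime_relIndex h4 (Nat.Coprime.coprime_dvd_right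
      (h5 ▸ relIndex_dvd_of_nrm le_rfl h4) ?_)
    exact (Nat.coprime_two_right).2 (hodd.of_dvd_nat (card_dvd_of_le hT.le))
  refine ⟨g, ?_⟩
  rw [← eq_of_le_of_card_le h6 (by rw [card_cj, c.cA, cT])]
  exact hT.le

end Ctx

end AM

open AM in
theorem AM_main (h : Hyp K t s) (hp : Minus K) :
    ∃ (Q T : Subgroup G) (w : G), ZH Q T w (2 * Nat.card K - 1) := by
  have h4 := h.four
  obtain ⟨m, hm⟩ : ∃ m, ♯K = m + 1 := ⟨♯K - 1, by omega⟩
  obtain ⟨A, a, c⟩ := exists_ctx h hp hm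
  obtain ⟨p, z, hpp, hz, ho⟩ := c.exists_p
  have := Fact.mk hpp
  obtain ⟨g, hg⟩ := c.exists_T ho hz
  have hQ := c.syl_cent ho hz
  have hQ0 : 𝐂[z] ≠ ⊥ := fun h => hz.2.1 (mem_bot.1 (h ▸ mem_cent1_self z))
  have ow : orderOf (g * a * g⁻¹) = 2 := ((MulAut.conj g).orderOf_eq a).trans c.a2
  have cT : ♯(cj g A) = m := (card_cj g A).trans c.cA
  rw [hm, show 2 * (m + 1) - 1 = 2 * m + 1 by omega]
  refine ⟨𝐂[z], cj g A, g * a * g⁻¹, (c.classes hz).1, by omega, fun x hx y hy => ?_,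
    fun x hx x1 y hy => c.cent_eq ho hz hx x1 ▸ mem_cent1_iff.2 hy, hg, ?_, by rw [cT],
    by rw [cT, c.card_norm ho hz], by rw [cT, c.cG]; ring, by rw [← sq, ← ow, pow_orderOf_eq_one],
    ?_, c.no_inv_norm ho hz hQ.isPGroup hQ0 ow,
    fun u v hu hv => (h.conj u hu).symm.trans (h.conj v hv)⟩
  · by_cases y1 : y = 1
    · simp [y1]
    · exact mem_cent1_iff.1 (c.cent_eq ho hz hy y1 ▸ hx)
  · rintro _ ⟨x, hx, rfl⟩ _ ⟨y, hy, rfl⟩
    rw [← map_mul, ← map_mul]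
    by_cases y1 : y = 1
    · simp [y1]
    · exact congrArg _ (mem_cent1_iff.1 ((c.centA y hy y1).1.symm ▸ hx))
  · intro x hx
    have := c.ainv _ (mem_cj.1 hx)
    calc g * a * g⁻¹ * x * (g * a * g⁻¹)⁻¹ = g * (a * (g⁻¹ * x * g) * a⁻¹) * g⁻¹ := by group
      _ = x⁻¹ := by rw [this]; group

end Cfsg.Agent.BW
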