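import Cfsg.Agent.BW.A0

/-! Brauer-Suzuki-Wall, piece AP: the case `q = 2k + 1`. -/

set_option autoImplicit false
set_option linter.unusedSectionVars false

namespace Cfsg.Agent.BW

open Subgroup Cfsg.Agent.FT Cfsg.Agent.H3
open scoped Classical

universe u
variable {G : Type u} [Group G] [Finite G]
variable {K : Subgroup G} {t s z x y g a b : G}

theorem AP_arith {k n m : ℕ} {u : ℤ} (hk : 4 ≤ k) (h1 : 1 < n) (hu : (n : ℤ) = 2 * k + 1 + u * k)
    (hm : n * m = (2 * k + 1) * (k + 1)) : n = 2 * k + 1 ∨ n = k + 1 ∨ m = 1 := by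
  have hk0 : (0 : ℤ) < k := by omega
  have hm0 : 0 < m := Nat.pos_of_ne_zero fun e => by rw [e] at hm; simp at hm
  have hm' : (n : ℤ) * m = (2 * k + 1) * (k + 1) := by exact_mod_cast hm
  obtain ⟨j, hj⟩ : ∃ j : ℤ, (n : ℤ) = 1 + j * k := ⟨2 + u, by rw [hu]; ring⟩
  obtain ⟨l, hl⟩ : ∃ l : ℤ, (m : ℤ) = 1 + l * k := ⟨2 * k + 3 - j * m, by
    rw [hj] at hm'; linear_combination hm'⟩
  have j1 : 1 ≤ j := by
    by_contra hc
    have : j * k ≤ 0 := mul_nonpos_of_nonpos_of_nonneg (by omega) hk0.le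
    omega
  have l0 : 0 ≤ l := by
    by_contra hc
    have : l * k ≤ -1 * k := mul_le_mul_of_nonneg_right (by omega) hk0.le
    omega
  have e : j + l + j * l * k = 2 * k + 3 := by
    rw [hj, hl] at hm'
    exact mul_left_cancel₀ hk0.ne' (by linear_combination hm')
  rcases l0.eq_or_lt with l0 | l0
  · right; right
    rw [← l0] at hl; omega
  · have h3 : j * l ≤ 2 := by
      by_contra hc
      have : 3 * k ≤ j * l * k := mul_le_mul_of_nonneg_right (by omega) hk0.le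
      omega
    have j2 : j ≤ 2 := by nlinarith
    have l2 : l ≤ 2 := by nlinarith
    interval_cases j <;> interval_cases l <;> omega

/-- two subgroups of the same order which are centralizers of their nonidentity elements are
conjugate -/
theorem exists_cj_eq_of_cc {A B : Subgroup G} (hA : ∀ x ∈ A, x ≠ 1 → 𝐂[x] = A)
    (hB : ∀ x ∈ B, x ≠ 1 → 𝐂[x] = B) {p : ℕ} (hp : p.Prime) (h1 : p ∣ ♯A) (h2 : p ∣ ♯B) :
    ∃ g : G, cj g B = A := by
  haveI := Fact.mk hp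
  obtain ⟨P, hP, hPA⟩ := exists_syl_le hA h1
  obtain ⟨y, hy, oy⟩ := exists_orderOf_eq_prime hp h2
  have y1 : y ≠ 1 := fun e => hp.one_lt.ne (by rw [← oy, e, orderOf_one])
  obtain ⟨g, -, hg⟩ := hP.exists_cj_le (Q := zpowers y)
    (isPGroup_of_card_prime (by rw [Nat.card_zpowers, oy])) le_top
  refine ⟨g, ?_⟩
  rw [← hB y hy y1, cj_cent1, hA _ (hPA (hg (conj_mem_cj (mem_zpowers y)))) (conj_ne_one y1)]

theorem AP_nb (h : Hyp K t s) (hp : Plus K) (hz : z ∈ Zs K) (h1 : z ≠ 1) :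
    nb z = 2 * ♯K + 1 ∨ nb z = ♯K + 1 := by
  obtain ⟨u, hu⟩ := hp.2 z hz
  have hk := h.four
  have h0 : nb z ≠ 0 := fun e => by
    rw [e] at hu
    have h2 : (♯K : ℤ) ∣ 1 := ⟨-(2 + u), by push_cast at hu; linear_combination -hu⟩
    have := Int.le_of_dvd one_pos h2
    omega
  obtain ⟨A, C, a, rfl, e1, -, -, e4, -, -, -, -, ⟨g, -, e9⟩, e10, e11, -⟩ := A0_real h hz h1 h0
  have hG : Nat.card G = 2 * ♯K * ((2 * ♯K + 1) * (♯K + 1)) := by rw [hp.1]; ring
  have hd : ♯𝐂[z] ∣ (2 * ♯K + 1) * (♯K + 1) :=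
    e4.dvd_of_dvd_mul_left (hG ▸ card_subgroup_dvd_card _)
  obtain ⟨m, hm⟩ := hd
  rw [e1] at hu ⊢
  rcases AP_arith hk (one_lt_card.2 (ne_bot_of_mem (mem_cent1_self z) h1)) hu hm.symm with
    e | e | e
  · exact Or.inl e
  · exact Or.inr e
  exfalso
  rw [e, mul_one] at hm
  have hi : (𝐂[z]).index = 2 * ♯K := by
    have := (𝐂[z]).card_mul_index
    rw [hG, hm, mul_comm] at this
    exact Nat.eq_of_mul_eq_mul_right (card_pos' _) this
  have hC : ♯C ≤ ♯K := by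
    rw [← card_cj g K]
    exact card_le_of_le' fun x hx => mem_cj.2 (e9 x hx)
  obtain ⟨n, hn⟩ : ∃ n : G, n ∉ 𝐍(𝐂[z]) := by
    by_contra hc
    have h2 : 𝐍(𝐂[z]) = ⊤ := eq_top_iff.2 fun n _ => by_contra fun h3 => hc ⟨n, h3⟩
    rw [h2, card_top, hG, hm, mul_comm] at e10
    have := Nat.eq_of_mul_eq_mul_left (card_pos' _) e10
    omega
  have hb : 𝐂[z] ⊓ cj n 𝐂[z] = ⊥ := by
    rw [eq_bot_iff]
    intro x hx
    by_contra h2
    refine hn (e11 n _ (mem_cj.1 hx.2) ?_ (by simpa [mul_assoc] using hx.1))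
    simpa using conj_ne_one (g := n⁻¹) h2
  have h3 := card_inf_mul_relIndex 𝐂[z] (cj n 𝐂[z])
  have h4 : (𝐂[z]).relIndex (cj n 𝐂[z]) ≤ (𝐂[z]).index := by
    rw [← relIndex_top_right]
    exact relIndex_le_of_le_right le_top (relIndex_pos _ _).ne'
  rw [hb, card_bot, one_mul, card_cj, ← hm] at h3
  nlinarith

theorem AP_count (h : Hyp K t s) (hp : Plus K) :
    (els {z : G | z ∈ Zs K ∧ z ≠ 1 ∧ nb z = 2 * ♯K + 1}).card = 4 * ♯K * (♯K + 1) := by
  have hk := h.four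
  set k := ♯K with hk'
  have hG : Nat.card G = 2 * k * ((2 * k + 1) * (k + 1)) := by rw [hp.1]; ring
  have hI : nb (1 : G) = (2 * k + 1) * (k + 1) :=
    Nat.eq_of_mul_eq_mul_left (by omega : 0 < 2 * k) ((A0_nb1 h).trans hG)
  have hc : (els (Zs K)ᶜ).card = (2 * k + 1) * (k + 1) * (k - 1) :=
    Nat.eq_of_mul_eq_mul_left (by omega : 0 < 2 * k) (by rw [A0_cardZc h, hG]; ring)
  set S0 := els {z : G | z ∈ Zs K ∧ z ≠ 1 ∧ nb z = 2 * k + 1}
  set S1 := els {z : G | z ∈ Zs K ∧ z ≠ 1 ∧ nb z = k + 1}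
  have key : ∀ f : G → ℕ, ∑ z ∈ els (Set.univ : Set G), f z =
      f 1 + ∑ z ∈ els (Zs K)ᶜ, f z + ∑ z ∈ S0, f z + ∑ z ∈ S1, f z := fun f => by
    have e : els (Set.univ : Set G) = (({1} ∪ els (Zs K)ᶜ) ∪ S0) ∪ S1 := by
      ext z
      simp only [mem_els, Set.mem_univ, Finset.mem_union, Finset.mem_singleton, Set.mem_compl_iff,
        S0, S1, Set.mem_ofPred_eq, true_iff]
      by_cases h1 : z = 1
      · simp [h1]
      by_cases h2 : z ∈ Zs K
      · rcases AP_nb h hp h2 h1 with e | e <;> simp [h1, h2, e, hk']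
      · simp [h2]
    rw [e, Finset.sum_union, Finset.sum_union, Finset.sum_union, Finset.sum_singleton]
    · simp [one_mem_Zs]
    · rw [Finset.disjoint_left]
      intro z h1 h2
      simp only [S0, mem_els, Set.mem_ofPred_eq, Finset.mem_union, Finset.mem_singleton,
        Set.mem_compl_iff] at h1 h2
      tauto
    · rw [Finset.disjoint_left]
      intro z h1 h2
      simp only [S0, S1, mem_els, Set.mem_ofPred_eq, Finset.mem_union, Finset.mem_singleton,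
        Set.mem_compl_iff] at h1 h2
      rcases h1 with (h1 | h1) | h1
      · exact h2.2.1 h1
      · exact h1 h2.1
      · omega
  have e1 := key fun _ => 1
  have e2 := key nb
  have s1 : ∑ z ∈ els (Zs K)ᶜ, nb z = (els (Zs K)ᶜ).card * k :=
    Finset.sum_const_nat fun z hz => A0_nbK h (by simpa using hz)
  have s2 : ∑ z ∈ S0, nb z = S0.card * (2 * k + 1) :=
    Finset.sum_const_nat fun z hz => by simp only [S0, mem_els] at hz; exact hz.2.2
  have s3 : ∑ z ∈ S1, nb z = S1.card * (k + 1) :=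
    Finset.sum_const_nat fun z hz => by simp only [S1, mem_els] at hz; exact hz.2.2
  rw [A0_sum, s1, s2, s3, hI, hc] at e2
  simp only [Finset.sum_const, smul_eq_mul, mul_one] at e1
  rw [card_els', Set.ncard_univ, hG, hc] at e1
  obtain ⟨j, hj⟩ : ∃ j, k = j + 1 := ⟨k - 1, by omega⟩
  rw [hj, Nat.add_sub_cancel] at e1 e2
  rw [hj]
  refine Nat.eq_of_mul_eq_mul_left (by omega : 0 < j + 1) ?_
  zify at e1 e2 ⊢
  linear_combination (j + 2 : ℤ) * e1 - e2

theorem AP_main (h : Hyp K t s) (hp : Plus K) :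
    ∃ (Q T : Subgroup G) (w : G), ZH Q T w (2 * Nat.card K + 1) := by
  have hk := h.four
  have hn := AP_count h hp
  obtain ⟨z, hz⟩ := Finset.card_pos.1 (show 0 < (els {z : G | z ∈ Zs K ∧ z ≠ 1 ∧
    nb z = 2 * ♯K + 1}).card by rw [hn]; positivity)
  rw [mem_els] at hz
  obtain ⟨hz, h1, hq⟩ := hz
  obtain ⟨A, C, a, rfl, e1, e2, -, -, e5, e6, -, e8, ⟨g, e9, e9'⟩, e10, -, e12⟩ :=
    A0_real h hz h1 (by omega)
  have cQ : ♯𝐂[z] = 2 * ♯K + 1 := e1.symm.trans hq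
  have hZ : ∀ x ∈ 𝐂[z], x ∈ Zs K := fun x hx => A0_centZ h hz h1 (mem_cent1_iff.1 hx)
  have es : {y | ∃ g : G, ∃ x ∈ 𝐂[z], x ≠ 1 ∧ g * x * g⁻¹ = y} =
      {z : G | z ∈ Zs K ∧ z ≠ 1 ∧ nb z = 2 * ♯K + 1} := by
    ext y
    simp only [Set.mem_ofPred_eq]
    constructor
    · rintro ⟨n, x, hx, h2, rfl⟩
      exact ⟨conj_mem_Zs n (hZ x hx), conj_ne_one h2, by rw [nb_conj, (e2 x hx h2).2, hq]⟩
    · rintro ⟨y1, y2, y3⟩
      obtain ⟨B, -, -, rfl, f1, f2, -⟩ := A0_real h y1 y2 (by omega)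
      obtain ⟨p, hp, hd⟩ := exists_prime_dvd_card (ne_bot_of_mem (mem_cent1_self z) h1)
      obtain ⟨n, hn⟩ := exists_cj_eq_of_cc (fun x hx h2 => (e2 x hx h2).1)
        (fun x hx h2 => (f2 x hx h2).1) hp hd (by rwa [← f1, y3, ← cQ])
      exact ⟨n⁻¹, n * y * n⁻¹, hn ▸ conj_mem_cj (mem_cent1_self y), conj_ne_one y2, by group⟩
  rw [es, hn, cQ, hp.1, Nat.add_sub_cancel] at e12
  have cC : ♯C = ♯K := by
    refine Nat.eq_of_mul_eq_mul_left (show 0 < (2 * ♯K + 1) * (4 * ♯K * (♯K + 1)) by positivity) ?_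
    linear_combination e12
  have hC : C = cj g K :=
    eq_of_le_of_card_le (fun x hx => mem_cj.2 (e9' x hx)) (by rw [card_cj, cC])
  have ww : g * s * g⁻¹ * (g * s * g⁻¹) = 1 := by
    rw [show g * s * g⁻¹ * (g * s * g⁻¹) = g * (s * s) * g⁻¹ by group, h.ss]; group
  refine ⟨𝐂[z], C, g * s * g⁻¹, cQ, by omega, fun x hx y hy => comm_of_inv e6 hx hy,
    fun x hx h2 n hn => (e2 x hx h2).1 ▸ mem_cent1_iff.2 hn, e8, fun x hx y hy => ?_,
    by rw [cC], by rw [e10, cQ], by rw [cC, hp.1]; ring, ww, fun x hx => ?_, fun hw => ?_,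
    fun u v hu hv => (h.conj u hu).symm.trans (h.conj v hv)⟩
  · have := h.comm _ (e9' x hx) _ (e9' y hy)
    calc x * y = g * (g⁻¹ * x * g * (g⁻¹ * y * g)) * g⁻¹ := by group
      _ = y * x := by rw [this]; group
  · calc g * s * g⁻¹ * x * (g * s * g⁻¹)⁻¹ = g * (s * (g⁻¹ * x * g) * s⁻¹) * g⁻¹ := by group
      _ = x⁻¹ := by rw [h.inv _ (e9' x hx)]; group
  · have os : orderOf s = 2 := h.out_ord (by rw [h.ss]; exact one_mem K)
    have st : s * t = t * s := (h.cent s).2 (Or.inr (by rw [h.ss]; exact one_mem K))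
    have h3 : g * s * g⁻¹ * a ∈ 𝐂[z] := mul_mem_cent1 (e6 z (mem_cent1_self z))
      (h.inv_cent hz h1 (by rw [orderOf_conj, os]) hw (mem_cent1_self z))
    have h4 := h.eq_one_of_comm e5 (hZ _ h3) (by
      rw [← e9]
      calc g * t * g⁻¹ * (g * s * g⁻¹ * (g * t * g⁻¹)) = g * (t * s * t) * g⁻¹ := by group
        _ = _ := by rw [← st]; group)
    rw [← e9, show g * s * g⁻¹ * (g * t * g⁻¹) = g * (s * t) * g⁻¹ by group] at h4
    have h5 : s * t = 1 := by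
      by_contra hc
      exact conj_ne_one hc h4
    exact h.sK (by rw [eq_inv_of_mul_eq_one_left h5]; exact inv_mem h.tK)

end Cfsg.Agent.BW
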