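import Cfsg.Agent.BW.Def
import Cfsg.Agent.FT.P.PF09b

/-! Brauer-Suzuki-Wall, piece Z0: coordinates on a Zassenhaus group of order `q (q² - 1) / 2`. -/

set_option autoImplicit false
set_option linter.unusedSectionVars false

namespace Cfsg.Agent.BW

open Subgroup Cfsg.Agent.FT

universe u
variable {G : Type u} [Group G] [Finite G]
variable {Q T : Subgroup G} {w x y b : G} {q : ℕ}

theorem Z0_field {V A : Subgroup G} (h : MinNrm V A) (hV : IsMulCommutative V)
    (hA : ⁅A, A⁆ ≤ centralizer V) (hx : x ∈ V) (h1 : x ≠ 1) :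
    ∃ (F : Type) (_ : Field F) (_ : Fintype F) (e : F → G) (t : G → F), Function.Injective e ∧
      (∀ c d, e (c + d) = e c * e d) ∧ (∀ y, y ∈ V ↔ ∃ c, e c = y) ∧
      ∀ c, ∀ a ∈ A, a * e c * a⁻¹ = e (t a * c) := by
  obtain ⟨F, _, s, t, h2, h3, h4, -, h6⟩ := P9.exists_field h hV hA hx h1
  choose e he hs using h4
  have : Finite F := Finite.of_injective e fun c d hh => by rw [← hs c, hh, hs]
  have inj : ∀ y ∈ V, ∀ z ∈ V, s y = s z → y = z := fun y hy z hz hh => by
    have := h2 _ (mul_mem hy (inv_mem hz)) _ hz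
    rw [inv_mul_cancel_right, hh, right_eq_add] at this
    exact mul_inv_eq_one.1 (h3 _ (mul_mem hy (inv_mem hz)) this)
  let ψ := Shrink.ringEquiv.{0} F
  refine ⟨Shrink.{0} F, inferInstance, Fintype.ofFinite _, e ∘ ψ, ψ.symm ∘ t, fun c d hh =>
    ψ.injective (by rw [← hs (ψ c), ← hs (ψ d)]; exact congrArg s hh), fun c d => ?_,
    fun y => ⟨fun hy => ⟨ψ.symm (s y), inj _ (he _) _ hy (by simp [hs])⟩, ?_⟩, fun c a ha => ?_⟩
  · exact inj _ (he _) _ (mul_mem (he _) (he _)) (by simp [h2 _ (he _) _ (he _), hs])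
  · rintro ⟨c, rfl⟩; exact he _
  · exact inj _ (conj_mem_of_le_normalizer h.norm ha (he _)) _ (he _)
      (by rw [h6 _ (he _) _ ha]; simp [hs])

namespace ZH
variable (h : ZH Q T w q)
include h

theorem disj (hx : x ∈ Q) (hT : x ∈ T) : x = 1 := by
  have h1 : x ^ q = 1 := h.cQ ▸ congrArg Subtype.val (pow_card_eq_one' (x := (⟨x, hx⟩ : Q)))
  have h2 : x ^ Nat.card T = 1 := congrArg Subtype.val (pow_card_eq_one' (x := (⟨x, hT⟩ : T)))
  rwa [← h.cT, pow_succ, mul_comm, pow_mul, h2, one_pow, one_mul] at h1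

theorem free (hx : x ∈ Q) (h1 : x ≠ 1) (hT : y ∈ T) (e : y * x * y⁻¹ = x) : y = 1 :=
  h.disj (h.ti x hx h1 y (mul_inv_eq_iff_eq_mul.1 e)) hT

theorem minNrm : MinNrm Q T := by
  have := h.cQ; have := h.q7; have := h.cT
  refine ⟨fun e => ?_, h.TN, fun X hX hT hb => ?_⟩
  · have := card_eq_one.2 e; omega
  obtain ⟨⟨x, hx⟩, h1⟩ := ne_bot_iff_exists_ne_one.1 hb
  replace h1 : x ≠ 1 := fun e => h1 (Subtype.ext e)
  have h2 : Nat.card (Option T) ≤ Nat.card X := Nat.card_le_card_of_injective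
    (fun o => o.elim 1 fun a => ⟨_, conj_mem_of_le_normalizer hT a.2 hx⟩) (by
      rintro (_ | a) (_ | c) e
      · rfl
      · exact absurd (congrArg Subtype.val e).symm (by simpa using h1)
      · exact absurd (congrArg Subtype.val e) (by simpa using h1)
      · have e1 : (a : G) * x * (a : G)⁻¹ = c * x * (c : G)⁻¹ := congrArg Subtype.val e
        have := h.free (hX hx) h1 (mul_mem (inv_mem c.2) a.2) (by
          rw [mul_inv_rev, mul_assoc (c : G)⁻¹, mul_assoc, ← mul_assoc _ (a : G)⁻¹, e1]; group)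
        rw [Subtype.ext (inv_mul_eq_one.mp this)])
  rw [Finite.card_option] at h2
  obtain ⟨m, hm⟩ := card_dvd_of_le hX
  refine eq_of_le_of_card_ge hX ?_
  rcases m with _ | _ | m
  · omega
  · omega
  · nlinarith

theorem mem_Q (hb : b ∈ normalizer (Q : Set G)) (h1 : b ^ q = 1) : b ∈ Q := by
  have h2 := (Q.subgroupOf (normalizer (Q : Set G))).card_mul_index
  rw [Nat.card_congr (subgroupOfEquivOfLe le_normalizer).toEquiv, h.cQ, h.cN] at h2
  have h3 : b ^ _ ∈ Q := (Q.subgroupOf (normalizer (Q : Set G))).pow_index_mem ⟨b, hb⟩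
  rw [Nat.eq_of_mul_eq_mul_left (by have := h.q7; omega) h2] at h3
  rw [← h.cT, pow_succ, mul_comm, pow_mul, mul_eq_one_iff_inv_eq] at h1
  exact h1 ▸ inv_mem (pow_mem h3 2)

theorem decomp (hb : b ∈ normalizer (Q : Set G)) : ∃ y ∈ Q, ∃ a ∈ T, b = y * a := by
  obtain ⟨⟨y, a⟩, e⟩ := ((Nat.bijective_iff_injective_and_card (fun p : Q × T =>
    (⟨p.1 * p.2, mul_mem (le_normalizer p.1.2) (h.TN p.2.2)⟩ : normalizer (Q : Set G)))).2
    ⟨fun ⟨y, a⟩ ⟨z, c⟩ e => by
      have e1 : (y : G) * a = z * c := congrArg Subtype.val e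
      have e2 : (z : G)⁻¹ * y = c * (a : G)⁻¹ := by rw [eq_mul_inv_iff_mul_eq, mul_assoc, e1]; group
      have := h.disj (mul_mem (inv_mem z.2) y.2) (e2 ▸ mul_mem c.2 (inv_mem a.2))
      exact Prod.ext (Subtype.ext (inv_mul_eq_one.1 this).symm)
        (Subtype.ext (mul_inv_eq_one.1 (e2.symm.trans this)).symm),
    by rw [Nat.card_prod, h.cQ, h.cN]⟩).2 ⟨b, hb⟩
  exact ⟨y, y.2, a, a.2, (congrArg Subtype.val e).symm⟩

theorem eq_one_of_conj (hy : y ∈ Q) (hb : w⁻¹ * y * w ∈ normalizer (Q : Set G)) : y = 1 := by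
  by_contra h1
  have h2 := h.mem_Q hb (by
    have : y ^ q = 1 := h.cQ ▸ congrArg Subtype.val (pow_card_eq_one' (x := (⟨y, hy⟩ : Q)))
    simpa [this] using conj_pow (a := w⁻¹) (b := y) (i := q))
  refine h.wN (inv_mem_iff.1 (mem_normalizer_fintype fun x hx => h.ti _ h2 ?_ _ ?_))
  · simpa [mul_assoc, inv_mul_eq_one] using h1
  · simp only [inv_inv, mul_assoc, mul_inv_cancel_left]
    rw [← mul_assoc x, h.comm x hx y hy, mul_assoc]

end ZH

theorem Z0_main (h : ZH Q T w q) : ∃ (F : Type) (_ : Field F) (_ : Fintype F)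
    (φ : G →* Equiv.Perm (Option F)), Fintype.card F = q ∧ Coord0 F φ w := by
  obtain ⟨⟨x, hx⟩, h1⟩ := ne_bot_iff_exists_ne_one.1 h.minNrm.ne_bot
  obtain ⟨F, _, _, e, t, inj, add, mem, act⟩ := Z0_field h.minNrm
    ⟨⟨fun a b => Subtype.ext (h.comm _ a.2 _ b.2)⟩⟩ (commutator_le.2 fun a ha c hc => by
      rw [commutatorElement_eq_one_iff_mul_comm.2 (h.commT a ha c hc)]; exact one_mem _) hx
    fun e => h1 (Subtype.ext e)
  have he : ∀ c, e c ∈ Q := fun c => (mem _).2 ⟨c, rfl⟩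
  have e0 : e 0 = 1 := by simpa using add 0 0
  have e1 : e 1 ≠ 1 := fun hh => one_ne_zero (inj (hh.trans e0.symm))
  have hF : Fintype.card F = q := by
    rw [← h.cQ, ← Nat.card_eq_fintype_card]
    exact Nat.card_eq_of_bijective (fun c => (⟨e c, he c⟩ : Q)) ⟨fun c d hh =>
      inj (congrArg Subtype.val hh), fun y => ((mem _).1 y.2).imp fun _ hh => Subtype.ext hh⟩
  have tm : ∀ a ∈ T, ∀ c ∈ T, t (a * c) = t a * t c := fun a ha c hc => inj (by
    rw [← mul_one (t _), ← act _ _ (mul_mem ha hc), ← act _ _ ha, ← mul_one (t c), ← act _ _ hc]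
    group)
  have t1 : ∀ a ∈ T, t a = 1 ↔ a = 1 := fun a ha => ⟨fun hh => h.free (he 1) e1 ha (by
    rw [act _ _ ha, hh, one_mul]), fun hh => inj (by rw [← mul_one (t a), ← act _ _ ha, hh]; simp)⟩
  let τ : T →* F := ⟨⟨fun a => t a, (t1 _ (one_mem _)).2 rfl⟩, fun a c => tm _ a.2 _ c.2⟩
  have hq := h.cT
  have hn : ∀ a : T, τ a ^ Nat.card T = 1 := fun a => by rw [← map_pow, pow_card_eq_one', map_one]
  have hsq : ∀ a : F, a ≠ 0 → ∃ g ∈ T, t g = a ^ 2 := fun a ha => by
    classical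
    have := Fintype.ofFinite T
    have hs : Finset.univ.image τ = (Polynomial.nthRoots (Nat.card T) (1 : F)).toFinset := by
      refine Finset.eq_of_subset_of_card_le (fun c hc => ?_) ?_
      · obtain ⟨g, -, rfl⟩ := Finset.mem_image.1 hc
        exact Multiset.mem_toFinset.2 ((Polynomial.mem_nthRoots Nat.card_pos).2 (hn g))
      · rw [Finset.card_image_of_injective _ ((injective_iff_map_eq_one τ).2 fun g hg =>
          Subtype.ext ((t1 _ g.2).1 hg)), Finset.card_univ, ← Nat.card_eq_fintype_card]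
        exact (Multiset.toFinset_card_le _).trans (Polynomial.card_nthRoots _ _)
    obtain ⟨g, -, hg⟩ := Finset.mem_image.1 (hs.ge (show a ^ 2 ∈ _ by
      have := FiniteField.pow_card_sub_one_eq_one a ha
      rw [hF, ← hq, Nat.add_sub_cancel, pow_mul] at this
      exact Multiset.mem_toFinset.2 ((Polynomial.mem_nthRoots Nat.card_pos).2 this)))
    exact ⟨g, g.2, hg⟩
  let f : Option F → G ⧸ normalizer (Q : Set G) := fun o => o.elim (1 : G) fun c => (e c * w : G)
  have hf : Function.Bijective f := by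
    refine (Nat.bijective_iff_injective_and_card f).2 ⟨?_, ?_⟩
    · have : ∀ c, f none ≠ f (some c) := fun c hh => h.wN (by
        simpa using mul_mem (inv_mem (le_normalizer (he c))) (QuotientGroup.eq.1 hh))
      rintro (_ | c) (_ | d) hh
      · rfl
      · exact absurd hh (this _)
      · exact absurd hh.symm (this _)
      · rw [inj (inv_mul_eq_one.1 (h.eq_one_of_conj (mul_mem (inv_mem (he c)) (he d)) (by
          simpa [mul_assoc] using QuotientGroup.eq.1 hh)))]
    · have h2 := (normalizer (Q : Set G)).card_mul_index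
      rw [h.cN, h.cG] at h2
      rw [Finite.card_option, Nat.card_eq_fintype_card, hF]
      exact (Nat.eq_of_mul_eq_mul_left (h.cN ▸ Nat.card_pos) h2).symm
  let φ : G →* Equiv.Perm (Option F) := (Equiv.ofBijective f hf).symm.permCongrHom.toMonoidHom.comp
    (MulAction.toPermHom G _)
  have hφ : ∀ g o o', φ g o = o' ↔ g • f o = f o' := fun g o o' =>
    (Equiv.ofBijective f hf).symm_apply_eq
  have hN : ∀ g, φ g none = none ↔ g ∈ normalizer (Q : Set G) := fun g => by
    rw [hφ, eq_comm]; exact QuotientGroup.eq.trans (by simp)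
  have hB : ∀ c, ∀ a ∈ T, ∀ x, φ (e c * a) (some x) = some (t a * x + c) := fun c a ha x => by
    refine (hφ _ _ _).2 (QuotientGroup.eq.2 ?_)
    have h2 := h.winv a⁻¹ (inv_mem ha)
    rw [← inv_eq_of_mul_eq_one_right h.ww, inv_inv] at h2
    rw [add_comm, add, ← act _ _ ha]
    convert h.TN (inv_mem (inv_mem ha)) using 1
    rw [← h2]
    simp [mul_assoc]
  refine ⟨F, inferInstance, inferInstance, φ, hF, (injective_iff_map_eq_one φ).2 fun g hg => ?_,
    fun g hg => ?_, fun c => ⟨e c, (hN _).2 (le_normalizer (he c)), fun x => ?_⟩, fun a ha => ?_,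
    (hφ _ _ _).2 ?_, h.ww, h.conj⟩
  · obtain ⟨y, hy, a, ha, rfl⟩ := h.decomp ((hN g).1 (by rw [hg]; rfl))
    obtain ⟨c, rfl⟩ := (mem _).1 hy
    have h2 := hB c a ha
    simp only [hg, Equiv.Perm.one_apply, Option.some.injEq] at h2
    obtain rfl : c = 0 := by simpa using (h2 0).symm
    rw [e0, (t1 a ha).1 (by simpa using (h2 1).symm), one_mul]
  · obtain ⟨y, hy, a, ha, rfl⟩ := h.decomp ((hN g).1 hg)
    obtain ⟨c, rfl⟩ := (mem _).1 hy
    have h0 : t a ≠ 0 := fun hh => by simpa [τ, hh, Nat.card_pos.ne'] using hn ⟨a, ha⟩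
    obtain ⟨r, hr⟩ := (FiniteField.isSquare_iff (fun hh => by
      have := FiniteField.even_card_iff_char_two.1 hh; omega) h0).2 (by
        rw [show Fintype.card F / 2 = Nat.card T by omega]; exact hn ⟨a, ha⟩)
    exact ⟨r, c, fun hh => h0 (by rw [hr, hh, mul_zero]), fun x => by rw [hB c a ha, hr, sq]⟩
  · simpa [(t1 _ (one_mem _)).2 rfl] using hB c 1 (one_mem _) x
  · obtain ⟨g, hg, e2⟩ := hsq a ha
    exact ⟨g, (hN g).2 (h.TN hg), fun x => by simpa [e0, e2] using hB 0 g hg x, h.winv g hg⟩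
  · simp [f, e0]

end Cfsg.Agent.BW
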