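import Cfsg.Agent.BW.Def

/-! Brauer-Suzuki-Wall, piece Z1: the action of `w` on the projective line. -/

set_option autoImplicit false
set_option linter.unusedSectionVars false

namespace Cfsg.Agent.BW

universe u
variable {G : Type u} [Group G] [Finite G] {w : G}

theorem Z1_sq {F : Type*} [Field F] [Fintype F] {ν x : F} (hν : ¬ IsSquare ν)
    (hx : ¬ IsSquare x) : ∃ r, r ≠ 0 ∧ x = r ^ 2 * ν := by
  classical
  have h0 : ν ≠ 0 := by rintro rfl; exact hν IsSquare.zero
  have h1 : x ≠ 0 := by rintro rfl; exact hx IsSquare.zero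
  obtain ⟨s, hs⟩ := (quadraticChar_one_iff_isSquare (mul_ne_zero h1 h0)).1 (by
    rw [map_mul, quadraticChar_neg_one_iff_not_isSquare.2 hν,
      quadraticChar_neg_one_iff_not_isSquare.2 hx]; norm_num)
  refine ⟨s / ν, fun e => h1 ?_, ?_⟩
  · rw [div_eq_zero_iff.1 e |>.resolve_right h0, mul_zero] at hs
    exact (mul_eq_zero.1 hs).resolve_right h0
  · field_simp; rw [hs, sq]

theorem Z1_main {F : Type} [Field F] [Fintype F] {φ : G →* Equiv.Perm (Option F)}
    (h : Coord0 F φ w) (ho : Odd (Fintype.card F)) : ∃ α : F, Coord F φ w α := by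
  have hc : ringChar F ≠ 2 := fun e => by
    have := FiniteField.even_card_iff_char_two.1 e; have := Nat.odd_iff.1 ho; omega
  have h2 : (2 : F) ≠ 0 := Ring.two_ne_zero hc
  have mul : ∀ g k o, φ (g * k) o = φ g (φ k o) := fun g k o => by rw [map_mul]; rfl
  have ww : ∀ o, φ w (φ w o) = o := fun o => by rw [← mul, h.ww, map_one]; rfl
  have w1 : φ w (some 0) = none := by rw [← h.w0, ww]
  have : ∀ x : F, ∃ y, x ≠ 0 → φ w (some x) = some y := fun x => by
    rcases e : φ w (some x) with _ | y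
    · exact ⟨0, fun hx => absurd (Option.some.inj ((φ w).injective (e.trans w1.symm))) hx⟩
    · exact ⟨y, fun _ => rfl⟩
  choose f hf using this
  have f0 : ∀ x, x ≠ 0 → f x ≠ 0 := fun x hx e =>
    Option.some_ne_none x ((φ w).injective (by rw [hf x hx, e, h.w0]))
  have ff : ∀ x, x ≠ 0 → f (f x) = x := fun x hx =>
    Option.some.inj (by rw [← hf _ (f0 x hx), ← hf x hx, ww])
  have fs : ∀ r x, r ≠ 0 → x ≠ 0 → r ^ 2 * x * f (r ^ 2 * x) = x * f x := fun r x hr hx => by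
    obtain ⟨g, -, e1, e2⟩ := h.sc r hr
    have : g * (w * g) = w := by rw [mul_inv_eq_iff_eq_mul.1 e2, mul_inv_cancel_left]
    have := congrArg (fun k => φ k (some x)) this
    simp only [mul, e1, hf x hx, hf _ (mul_ne_zero (pow_ne_zero 2 hr) hx), Option.some.injEq] at this
    rw [← this]; ring
  have one : ∀ g, φ g none = none → (∀ x, φ g (some x) = some x) → g = 1 := fun g e1 e2 =>
    h.inj (Equiv.ext fun o => by cases o <;> simp [e1, e2])
  have w2 : w ≠ 1 := fun e => by simpa [e] using h.w0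
  suffices ∃ α, IsSquare (-α) ∧ ∀ x, x ≠ 0 → x * f x = α by
    obtain ⟨α, ⟨b, hb⟩, hα⟩ := this
    refine ⟨α, h.inj, h.aff, h.tr, ⟨b, ?_, hb.trans (sq b).symm⟩, h.w0, w1, fun x hx => ?_⟩
    · rintro rfl
      exact f0 1 one_ne_zero (by simpa [← hα 1 one_ne_zero] using hb)
    · rw [hf x hx, ← hα x hx, mul_div_cancel_left₀ _ hx]
  by_cases hi : IsSquare (-1 : F)
  · obtain ⟨i, hi⟩ := hi
    have i0 : i ≠ 0 := by rintro rfl; simp at hi
    obtain ⟨τ, t0, t1, -⟩ := h.sc i i0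
    simp only [sq, ← hi, neg_one_mul] at t1
    obtain ⟨k, hk⟩ := isConj_iff.1 (h.conj τ w (orderOf_eq_prime (one _ (by simp [sq, mul, t0])
      (by simp [sq, mul, t1])) fun e => h2 (by
        have := t1 1; simp only [e, map_one, Equiv.Perm.one_apply, Option.some.injEq] at this
        linear_combination this)) (orderOf_eq_prime (by rw [sq, h.ww]) w2))
    have hk1 : φ w (φ k none) = φ k none := by
      rw [← mul, ← hk, inv_mul_cancel_right, mul, t0]
    obtain ⟨c, hc1⟩ : ∃ c, φ k none = some c := Option.ne_none_iff_exists'.1 fun e => by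
      simp [e, h.w0] at hk1
    rw [hc1] at hk1
    have c0 : c ≠ 0 := by rintro rfl; simp [w1] at hk1
    have fc : f c = c := Option.some.inj ((hf c c0).symm.trans hk1)
    obtain ⟨g, g0, g1⟩ := h.tr c
    obtain ⟨a, d, -, e⟩ := h.aff (g * τ * w * (g * τ * w * (g * τ * w))) (by
      simp [mul, h.w0, hk1, w1, t0, t1, g0, g1])
    have e0 := e 0
    have e1 := e c
    simp [mul, h.w0, hk1, w1, t0, t1, g0, g1] at e0 e1
    rw [← e0, add_zero, eq_comm, mul_eq_right₀ c0] at e1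
    obtain ⟨ν, hν⟩ := FiniteField.exists_nonsquare hc
    have n0 : ν ≠ 0 := by rintro rfl; exact hν IsSquare.zero
    have n1 : ν + 1 ≠ 0 := fun e => hν ⟨i, by linear_combination e - hi.symm⟩
    have n2 : ν - 1 ≠ 0 := fun e => hν ⟨1, by linear_combination e⟩
    obtain ⟨y, hy⟩ : ∃ y, y = (ν - 1) / (ν + 1) := ⟨_, rfl⟩
    have y0 : y ≠ 0 := hy ▸ div_ne_zero n2 n1
    have hy1 : 1 - y ^ 2 = (2 / (ν + 1)) ^ 2 * ν := by rw [hy]; field_simp; ring
    have y1 : 1 - y ^ 2 ≠ 0 := hy1 ▸ mul_ne_zero (pow_ne_zero 2 (div_ne_zero h2 n1)) n0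
    have hγ : ν * c * f (ν * c) = c * c := by
      have a1 : f (y ^ 2 * c) = c / y ^ 2 := by
        have := fs y c y0 c0; rw [fc] at this; field_simp at this ⊢; exact this
      have a2 := fs _ _ (div_ne_zero h2 n1) (mul_ne_zero n0 c0)
      have a3 := fs _ _ (div_ne_zero i0 y0) (mul_ne_zero y1 c0)
      rw [← mul_assoc _ ν, ← hy1] at a2
      have a4 : (i / y) ^ 2 * ((1 - y ^ 2) * c) = -(c / y ^ 2) + c := by
        field_simp; linear_combination (y ^ 2 - 1) * hi
      have a5 := congrArg (φ (w * τ⁻¹ * g⁻¹)) (e (y ^ 2 * c))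
      have a6 : φ (τ⁻¹ * g⁻¹) (some (y ^ 2 * c)) = some ((1 - y ^ 2) * c) := by
        rw [← mul_inv_rev, map_inv, Equiv.Perm.inv_eq_iff_eq, mul, t1, g1]; congr 1; ring
      have a7 : -(c / y ^ 2) + c ≠ 0 :=
        a4 ▸ mul_ne_zero (pow_ne_zero 2 (div_ne_zero i0 y0)) (mul_ne_zero y1 c0)
      rw [← mul, e1, ← e0, one_mul, add_zero, mul_assoc w, mul w, a6, hf _ (mul_ne_zero y1 c0),
        show w * (τ⁻¹ * g⁻¹) * (g * τ * w * (g * τ * w * (g * τ * w))) =
          w * w * (g * τ * w * (g * τ * w)) by group, h.ww, one_mul] at a5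
      simp only [mul, hf _ (mul_ne_zero (pow_ne_zero 2 y0) c0), a1, t1, g1, hf _ a7,
        Option.some.injEq] at a5
      rw [a4, ← a5] at a3
      rw [← a2, ← a5]
      exact mul_left_cancel₀ y1 (by
        linear_combination y ^ 2 * a3 + f (-(c / y ^ 2) + c) * div_mul_cancel₀ c (pow_ne_zero 2 y0))
    refine ⟨c * c, ⟨i * c, by linear_combination c * c * hi⟩, fun x hx => ?_⟩
    by_cases hs : IsSquare (x / c)
    · obtain ⟨r, hr⟩ := hs
      obtain rfl : x = r ^ 2 * c := by rw [sq, ← hr, div_mul_cancel₀ _ c0]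
      rw [fs r c (by rintro rfl; simp at hx) c0, fc]
    · obtain ⟨r, r0, hr⟩ := Z1_sq hν hs
      obtain rfl : x = r ^ 2 * (ν * c) := by rw [← mul_assoc, ← hr, div_mul_cancel₀ _ c0]
      rw [fs r _ r0 (mul_ne_zero n0 c0), hγ]
  have nf : ∀ c, c ≠ 0 → f c ≠ c := fun c c0 fc => by
    obtain ⟨g, g0, g1⟩ := h.tr c
    have e0 : φ (g * w) none = some c := by simp [mul, h.w0, g1]
    have e1 : φ ((g * w)⁻¹ * w * (g * w)) none = none := by
      rw [mul, mul, e0, hf c c0, fc, map_inv, Equiv.Perm.inv_eq_iff_eq, e0]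
    obtain ⟨a, d, -, e⟩ := h.aff _ e1
    have e2 : ∀ x, a ^ 2 * (a ^ 2 * x + d) + d = x := fun x => Option.some.inj (by
      rw [← e, ← e, ← mul, show (g * w)⁻¹ * w * (g * w) * ((g * w)⁻¹ * w * (g * w)) =
        (g * w)⁻¹ * (w * w) * (g * w) by group, h.ww]; simp)
    have e3 : a ^ 2 + 1 ≠ 0 := fun e => hi ⟨a, by linear_combination -e⟩
    have e4 : d = 0 := mul_left_cancel₀ e3 (by linear_combination e2 0)
    have e5 : a ^ 2 = 1 := mul_left_cancel₀ e3 (by linear_combination e2 1 - e2 0)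
    have := one _ e1 fun x => by rw [e, e4, e5, one_mul, add_zero]
    exact w2 (by simpa [-mul_inv_rev, mul_assoc, inv_mul_eq_one] using this)
  have hα : ¬ IsSquare (f 1) := fun ⟨b, hb⟩ => by
    have b0 : b ≠ 0 := by rintro rfl; exact f0 1 one_ne_zero (by simpa using hb)
    obtain ⟨r, r0, hr⟩ : ∃ r, r ≠ 0 ∧ r ^ 2 * r ^ 2 = b * b := by
      by_cases hs : IsSquare b
      · obtain ⟨r, rfl⟩ := hs
        exact ⟨r, by simpa using b0, by ring⟩
      · obtain ⟨r, r0, rfl⟩ := Z1_sq hi hs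
        exact ⟨r, r0, by ring⟩
    refine nf (r ^ 2 * 1) (by simpa using r0) (mul_left_cancel₀ (pow_ne_zero 2 r0) ?_)
    linear_combination fs r 1 r0 one_ne_zero + hb - hr
  obtain ⟨s, -, hs⟩ := Z1_sq hi hα
  refine ⟨f 1, ⟨s, by linear_combination -hs⟩, fun x hx => ?_⟩
  by_cases hs : IsSquare x
  · obtain ⟨r, rfl⟩ := hs
    simpa [sq] using fs r 1 (by simpa using hx) one_ne_zero
  · obtain ⟨r, r0, rfl⟩ := Z1_sq hα hs
    rw [fs r _ r0 (f0 1 one_ne_zero), ff 1 one_ne_zero, mul_one]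

end Cfsg.Agent.BW
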