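import Cfsg.Agent.BW.C
import Cfsg.Agent.BW.AP
import Cfsg.Agent.BW.AM
import Cfsg.Agent.BW.Z0
import Cfsg.Agent.BW.Z1
import Cfsg.Agent.BW.Z2

/-! The Brauer-Suzuki-Wall theorem. -/

set_option autoImplicit false
set_option linter.unusedSectionVars false

namespace Cfsg.Agent.BW

universe u
variable {G : Type u} [Group G] [Finite G] {K Q T : Subgroup G} {t s w : G} {q : ℕ}

theorem ZH.psl (h : ZH Q T w q) : ∃ (F : Type) (_ : Field F) (_ : Fintype F), Fintype.card F = q ∧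
    Nonempty (G ≃* Matrix.ProjectiveSpecialLinearGroup (Fin 2) F) := by
  obtain ⟨F, _, _, φ, e, c⟩ := Z0_main h
  have ho : Odd (Fintype.card F) := ⟨Nat.card T, by rw [e, ← h.cT]⟩
  obtain ⟨α, c'⟩ := Z1_main c ho
  refine ⟨F, _, _, e, Z2_main c' ?_ ho⟩
  have h1 := h.cT
  rw [h.cG, e]
  subst h1
  have : (2 * Nat.card T + 1) ^ 2 - 1 = 2 * Nat.card T * (2 * Nat.card T + 1 + 1) :=
    Nat.sub_eq_of_eq_add (by ring)
  rw [this]; ring

/-- **Brauer-Suzuki-Wall** -/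
theorem main (h : Hyp K t s) : ∃ (F : Type) (_ : Field F) (_ : Fintype F),
    (Fintype.card F = 2 * Nat.card K + 1 ∨ Fintype.card F + 1 = 2 * Nat.card K) ∧
      Nonempty (G ≃* Matrix.ProjectiveSpecialLinearGroup (Fin 2) F) := by
  have := h.four
  rcases C_main h with c | c
  · obtain ⟨Q, T, w, z⟩ := AP_main h c
    obtain ⟨F, _, _, e, i⟩ := z.psl
    exact ⟨F, _, _, .inl e, i⟩
  · obtain ⟨Q, T, w, z⟩ := AM_main h c
    obtain ⟨F, _, _, e, i⟩ := z.psl
    exact ⟨F, _, _, .inr (by omega), i⟩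

end Cfsg.Agent.BW
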