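import Cfsg.Agent.BW.A0a

/-! Brauer-Suzuki-Wall, piece A0 (second part): strongly real elements of `Zs K`. -/

set_option autoImplicit false
set_option linter.unusedSectionVars false

namespace Cfsg.Agent.BW

open Subgroup Cfsg.Agent.FT Cfsg.Agent.H3
open scoped Classical

universe u
variable {G : Type u} [Group G] [Finite G]
variable {K : Subgroup G} {t s z x y g a b : G}

theorem cent1_inv (z : G) : 𝐂[z⁻¹] = 𝐂[z] := by
  ext y
  rw [mem_cent1_iff, mem_cent1_iff]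
  exact ⟨fun h => by simpa using (Commute.inv_right h).eq, fun h => (Commute.inv_right h).eq⟩

theorem mem_norm_of_inv (e : a * z * a⁻¹ = z⁻¹) : a ∈ 𝐍(𝐂[z]) := by
  rw [← cj_eq_iff_mem_normalizer, cj_cent1, e, cent1_inv]

theorem comm_of_inv {A : Subgroup G} (h : ∀ x ∈ A, a * x * a⁻¹ = x⁻¹) (hx : x ∈ A) (hy : y ∈ A) :
    x * y = y * x := by
  have e := h _ (mul_mem hx hy)
  rw [show a * (x * y) * a⁻¹ = a * x * a⁻¹ * (a * y * a⁻¹) by group, h x hx, h y hy,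
    ← mul_inv_rev, inv_inj] at e
  exact e.symm

theorem mul_mem_cent1 (e1 : a * z * a⁻¹ = z⁻¹) (e2 : b * z * b⁻¹ = z⁻¹) : b * a ∈ 𝐂[z] := by
  rw [mem_cent1_iff, ← mul_inv_eq_iff_eq_mul]
  calc b * a * z * (b * a)⁻¹ = b * (a * z * a⁻¹) * b⁻¹ := by group
    _ = (b * z * b⁻¹)⁻¹ := by rw [e1]; group
    _ = z := by rw [e2, inv_inv]

namespace Hyp

theorem eq_one_of_comm (h : Hyp K t s) (ha : orderOf a = 2) (hz : z ∈ Zs K) (e : a * z = z * a) :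
    z = 1 := by
  by_contra h1
  exact h.inv_notMem_Zs ha (A0_centZ h hz h1 e)

/-- an involution normalizing `C(z)` inverts it -/
theorem inv_cent (h : Hyp K t s) (hz : z ∈ Zs K) (h1 : z ≠ 1) (ha : orderOf a = 2)
    (hn : a ∈ 𝐍(𝐂[z])) (hx : x ∈ 𝐂[z]) : a * x * a⁻¹ = x⁻¹ :=
  inverts_of_fixedPointFree (mul_self_of_orderOf_two ha) hn
    (fun _ hy e => h.eq_one_of_comm ha (A0_centZ h hz h1 (mem_cent1_iff.1 hy)) e) hx

theorem cent_eq_of_real (h : Hyp K t s) (hz : z ∈ Zs K) (h1 : z ≠ 1) (ha : orderOf a = 2)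
    (e : a * z * a⁻¹ = z⁻¹) (hx : x ∈ 𝐂[z]) (h2 : x ≠ 1) : 𝐂[x] = 𝐂[z] := by
  have i1 := fun y => h.inv_cent (x := y) hz h1 ha (mem_norm_of_inv e)
  have i2 := fun y => h.inv_cent (x := y) (A0_centZ h hz h1 (mem_cent1_iff.1 hx)) h2 ha
    (mem_norm_of_inv (i1 x hx))
  ext y
  exact ⟨fun hy => mem_cent1_iff.2 (comm_of_inv i2 hy (mem_cent1_comm.1 hx)),
    fun hy => mem_cent1_iff.2 (comm_of_inv i1 hy hx)⟩

theorem nb_real (h : Hyp K t s) (hz : z ∈ Zs K) (h1 : z ≠ 1) (ha : orderOf a = 2)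
    (e : a * z * a⁻¹ = z⁻¹) : nb z = ♯𝐂[z] := by
  have i1 := fun y => h.inv_cent (x := y) hz h1 ha (mem_norm_of_inv e)
  rw [nb_eq, ← card_coset 𝐂[z] a]
  congr 2
  ext b
  simp only [Set.mem_ofPred_eq]
  refine ⟨fun ⟨b1, b2⟩ => mul_mem_cent1 e (inv_of_pair b1 b2), fun hb => ?_⟩
  have aa := mul_self_of_orderOf_two ha
  have eb : b = b * a * a := by rw [mul_assoc, aa, mul_one]
  have b1 : orderOf b = 2 := by
    refine orderOf_two_of_mul_self ?_ fun e1 => ?_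
    · calc b * b = b * a * (a * (b * a) * a⁻¹) := by
            rw [← mul_assoc, ← mul_assoc, mul_assoc b a a, aa]; group
        _ = 1 := by rw [i1 _ hb, mul_inv_cancel]
    · rw [e1, one_mul] at hb
      exact h.inv_notMem_Zs ha (A0_centZ h hz h1 (mem_cent1_iff.1 hb))
  refine ⟨b1, pair_of_inv b1 ?_ fun e1 => h.inv_notMem_Zs b1 (e1 ▸ hz)⟩
  have hb' : b * a ∈ 𝐂[z⁻¹] := by rwa [cent1_inv]
  calc b * z * b⁻¹ = b * a * (a * z * a⁻¹) * (b * a)⁻¹ := by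
        rw [← mul_assoc, ← mul_assoc, mul_assoc b a a, aa, mul_inv_rev,
          inv_eq_of_orderOf_two ha, mul_assoc _ a, ← mul_assoc a a, aa]; group
    _ = z⁻¹ := by rw [e, mem_cent1_iff.1 hb']; group

end Hyp

/-- a subgroup which is the centralizer of each of its nonidentity elements contains Sylow
subgroups of `G` -/
theorem exists_syl_le {A : Subgroup G} (hA : ∀ x ∈ A, x ≠ 1 → 𝐂[x] = A) {p : ℕ} [Fact p.Prime]
    (hp : p ∣ ♯A) : ∃ P, Syl p P ⊤ ∧ P ≤ A := by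
  obtain ⟨x, hx, ox⟩ := exists_orderOf_eq_prime Fact.out hp
  have x1 : x ≠ 1 := fun e => (Fact.out : p.Prime).one_lt.ne (by rw [← ox, e, orderOf_one])
  obtain ⟨P, hP, hle⟩ := exists_syl_ge (Q := zpowers x) (H := ⊤)
    (isPGroup_of_card_prime (by rw [Nat.card_zpowers, ox])) le_top
  have hxP : x ∈ P := hle (mem_zpowers x)
  obtain ⟨c, hc, c1⟩ := exists_ne_one_of_ne_bot
    (ctr_ne_bot (isNilpotent_of_isPGroup hP.isPGroup) (ne_bot_of_mem hxP x1))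
  have hcA : c ∈ A := by
    rw [← hA x hx x1]
    exact cent_le_cent1 hxP hc.2
  refine ⟨P, hP, ?_⟩
  rw [← hA c hcA c1]
  exact le_cent1_iff.2 hc.2

theorem coprime_index {A : Subgroup G} (hA : ∀ x ∈ A, x ≠ 1 → 𝐂[x] = A) :
    Nat.Coprime ♯A A.index := by
  refine Nat.coprime_of_dvd fun p hp h1 h2 => ?_
  haveI := Fact.mk hp
  obtain ⟨P, hP, hle⟩ := exists_syl_le hA h1
  refine hP.not_dvd ?_
  rw [relIndex_top_right]
  exact h2.trans (index_dvd_of_le hle)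

/-- a strongly real element of `Zs K` -/
theorem A0_real (h : Hyp K t s) (hz : z ∈ Zs K) (h1 : z ≠ 1) (h0 : nb z ≠ 0) :
    ∃ (A C : Subgroup G) (a : G), A = centralizer ({z} : Set G) ∧ nb z = Nat.card A ∧
      (∀ x ∈ A, x ≠ 1 → centralizer ({x} : Set G) = A ∧ nb x = nb z) ∧
      Nat.Coprime (Nat.card A) A.index ∧ Nat.Coprime (Nat.card A) (2 * Nat.card K) ∧
      orderOf a = 2 ∧ (∀ x ∈ A, a * x * a⁻¹ = x⁻¹) ∧ a ∈ C ∧ C ≤ normalizer (A : Set G) ∧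
      (∃ g : G, g * t * g⁻¹ = a ∧ ∀ x ∈ C, g⁻¹ * x * g ∈ K) ∧
      Nat.card (normalizer (A : Set G)) = Nat.card A * Nat.card C ∧
      (∀ g : G, ∀ x ∈ A, x ≠ 1 → g * x * g⁻¹ ∈ A → g ∈ normalizer (A : Set G)) ∧
      Nat.card A * Nat.card C * (els {y | ∃ g : G, ∃ x ∈ A, x ≠ 1 ∧ g * x * g⁻¹ = y}).card =
        Nat.card G * (Nat.card A - 1) := by
  obtain ⟨a, ha, ha'⟩ := exists_pair h0
  have e := inv_of_pair ha ha'
  have aa := mul_self_of_orderOf_two ha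
  have aN := mem_norm_of_inv e
  have i1 := fun y => h.inv_cent (x := y) hz h1 ha aN
  have hZ : ∀ x ∈ 𝐂[z], x ∈ Zs K := fun x hx => A0_centZ h hz h1 (mem_cent1_iff.1 hx)
  have hA : ∀ x ∈ 𝐂[z], x ≠ 1 → 𝐂[x] = 𝐂[z] := fun x hx h2 => h.cent_eq_of_real hz h1 ha e hx h2
  have hcop : Nat.Coprime ♯𝐂[z] (2 * ♯K) := by
    refine Nat.coprime_of_dvd fun p hp h2 h3 => ?_
    haveI := Fact.mk hp
    obtain ⟨P, hP, hle⟩ := exists_syl_le hA h2
    rw [← A0_cardH h] at h3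
    obtain ⟨y, hy, oy⟩ := exists_orderOf_eq_prime hp h3
    obtain ⟨g, -, hg⟩ := hP.exists_cj_le (Q := zpowers y)
      (isPGroup_of_card_prime (by rw [Nat.card_zpowers, oy])) le_top
    have h4 := (conj_mem_Zs_iff g).1 (hZ _ (hle (hg (conj_mem_cj (mem_zpowers y)))))
    exact hp.one_lt.ne (by rw [← oy, h.eq_one_of_comm_t h4 (mem_cent1_iff.1 hy), orderOf_one])
  have hti : ∀ g : G, ∀ x ∈ 𝐂[z], x ≠ 1 → g * x * g⁻¹ ∈ 𝐂[z] → g ∈ 𝐍(𝐂[z]) :=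
    fun g x hx h2 hg => by
      rw [← cj_eq_iff_mem_normalizer]
      conv_lhs => rw [← hA x hx h2]
      rw [cj_cent1, hA _ hg (conj_ne_one h2)]
  have hinf : 𝐂[z] ⊓ (𝐍(𝐂[z]) ⊓ 𝐂[a]) = ⊥ := by
    rw [eq_bot_iff]
    intro x hx
    exact h.eq_one_of_comm ha (hZ x hx.1) (mem_cent1_iff.1 hx.2.2).symm
  have hcN : ♯𝐍(𝐂[z]) = ♯𝐂[z] * ♯(𝐍(𝐂[z]) ⊓ 𝐂[a]) := by
    rw [← card_sup_of_inf_eq_bot inf_le_left hinf]
    congr 3
    refine le_antisymm (fun n hn => ?_) (sup_le le_normalizer inf_le_left)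
    have b1 : orderOf (n * a * n⁻¹) = 2 := by rw [orderOf_conj, ha]
    have b2 : n * a * n⁻¹ * a ∈ 𝐂[z] := mul_mem_cent1 e (h.inv_cent hz h1 b1
      (mul_mem (mul_mem hn aN) (inv_mem hn)) (mem_cent1_self z))
    obtain ⟨m, hm⟩ : Odd ♯𝐂[z] := Nat.coprime_two_right.1 (Nat.Coprime.coprime_dvd_right (dvd_mul_right _ _) hcop)
    set y := n * a * n⁻¹ * a with hy
    have hx : y ^ (m + 1) ∈ 𝐂[z] := pow_mem b2 _
    have hxx : y ^ (m + 1) * y ^ (m + 1) = y := by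
      rw [← pow_add, show m + 1 + (m + 1) = 2 * m + 1 + 1 by ring, ← hm, pow_succ,
        pow_card_eq_one'' b2, one_mul]
    generalize y ^ (m + 1) = x at hx hxx
    have h5 : x⁻¹ * n ∈ 𝐂[a] := by
      rw [mem_cent1_iff, ← mul_inv_eq_iff_eq_mul]
      calc x⁻¹ * n * a * (x⁻¹ * n)⁻¹ = x⁻¹ * (n * a * n⁻¹ * (a * a)) * x := by rw [aa]; group
        _ = x⁻¹ * (x * x) * (a * x * a⁻¹) * a := by rw [hxx, hy]; group
        _ = a := by rw [i1 x hx]; group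
    rw [show n = x * (x⁻¹ * n) by group]
    have h6 : x⁻¹ * n ∈ 𝐍(𝐂[z]) := mul_mem (inv_mem (le_normalizer hx)) hn
    exact mul_mem_sup hx ⟨h6, h5⟩
  refine ⟨𝐂[z], 𝐍(𝐂[z]) ⊓ 𝐂[a], a, rfl, h.nb_real hz h1 ha e, fun x hx h2 => ⟨hA x hx h2, ?_⟩,
    coprime_index hA, hcop, ha, i1, ⟨aN, mem_cent1_self a⟩, inf_le_left, ?_, hcN, hti, ?_⟩
  · rw [h.nb_real hz h1 ha e, h.nb_real (hZ x hx) h2 ha (i1 x hx), hA x hx h2]
  · obtain ⟨g, hg⟩ := isConj_iff.1 (h.conj a ha)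
    refine ⟨g, hg, fun x hx => ?_⟩
    have h3 : g⁻¹ * x * g * t = t * (g⁻¹ * x * g) := by
      calc g⁻¹ * x * g * t = g⁻¹ * (x * (g * t * g⁻¹)) * g := by group
        _ = g⁻¹ * ((g * t * g⁻¹) * x) * g := by rw [hg, mem_cent1_iff.1 hx.2]
        _ = _ := by group
    rcases (h.cent _).1 h3 with h4 | h4
    · exact h4
    · have o : orderOf x = 2 := by
        rw [← h.out_ord h4, ← orderOf_conj g⁻¹ x, inv_inv]
      have h5 : x * a ∈ 𝐂[z] ⊓ (𝐍(𝐂[z]) ⊓ 𝐂[a]) :=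
        ⟨mul_mem_cent1 e (h.inv_cent hz h1 o hx.1 (mem_cent1_self z)),
          mul_mem hx ⟨aN, mem_cent1_self a⟩⟩
      rw [hinf, mem_bot, ← aa, mul_left_inj] at h5
      rw [h5, ← hg]
      simpa [mul_assoc] using h.tK
  · have e := card_ti (S := sharp 𝐂[z]) (L := 𝐍(𝐂[z])) ⟨z, mem_cent1_self z, h1⟩
      (fun g hg a ha => conj_mem_sharp hg ha) (fun g a ha hg => hti g a ha.1 ha.2 hg.1)
    rw [hcN] at e
    rw [← ncard_sharp 𝐂[z], Nat.add_sub_cancel, ← e, ncard_sharp]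
    congr 3
    ext y
    simp only [Set.mem_ofPred_eq, mem_sharp, and_assoc]

end Cfsg.Agent.BW
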