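import Cfsg.Agent.BW.Def
import Cfsg.Agent.FT.PF02
import Cfsg.Agent.H3.Misc

/-! Brauer-Suzuki-Wall, piece A0 (first part): elementary consequences of the hypothesis. -/

set_option autoImplicit false
set_option linter.unusedSectionVars false

namespace Cfsg.Agent.BW

open Subgroup Cfsg.Agent.FT Cfsg.Agent.H3
open scoped Classical

universe u
variable {G : Type u} [Group G] [Finite G]
variable {K : Subgroup G} {t s z x y g a : G}

/-- counting the conjugates of a trivial intersection set -/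
theorem card_ti {S : Set G} {L : Subgroup G} (h0 : S.Nonempty)
    (h1 : ∀ g ∈ L, ∀ a ∈ S, g * a * g⁻¹ ∈ S) (h2 : ∀ g : G, ∀ a ∈ S, g * a * g⁻¹ ∈ S → g ∈ L) :
    Nat.card L * (els {y | ∃ g : G, ∃ x ∈ S, g * x * g⁻¹ = y}).card = Nat.card G * S.ncard := by
  have h : NormedTI S ⊤ L := ⟨h0, le_top, h1, fun g _ => h2 g⟩
  have e : {y | ∃ g : G, ∃ x ∈ S, g * x * g⁻¹ = y} = clsup S ⊤ := by
    ext y
    simp only [Set.mem_ofPred_eq, mem_clsup]
    exact ⟨fun ⟨g, x, hx, e⟩ => ⟨x, hx, g, mem_top g, e⟩, fun ⟨x, hx, g, _, e⟩ => ⟨g, x, hx, e⟩⟩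
  rw [e, card_els', card_clsup_normedTI h, relIndex_top_right, ← L.card_mul_index]
  ring

theorem nb_conj (g z : G) : nb (g * z * g⁻¹) = nb z := by
  refine Nat.card_congr (Equiv.subtypeEquiv (MulAut.conj g⁻¹).toEquiv fun a => ?_)
  have e1 : orderOf ((MulAut.conj g⁻¹).toEquiv a) = orderOf a := (MulAut.conj g⁻¹).orderOf_eq a
  have e2 : ((MulAut.conj g⁻¹).toEquiv a)⁻¹ * z = g⁻¹ * (a⁻¹ * (g * z * g⁻¹)) * g⁻¹⁻¹ := by
    simp [mul_assoc]
  rw [e1, e2, orderOf_conj]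

theorem inv_of_pair (h1 : orderOf a = 2) (h2 : orderOf (a⁻¹ * z) = 2) : a * z * a⁻¹ = z⁻¹ := by
  have e := mul_self_of_orderOf_two h2
  rw [inv_eq_of_orderOf_two h1] at e ⊢
  rw [eq_inv_iff_mul_eq_one, mul_assoc, mul_assoc, ← mul_assoc, e]

theorem pair_of_inv (h1 : orderOf a = 2) (h2 : a * z * a⁻¹ = z⁻¹) (h3 : a ≠ z) :
    orderOf (a⁻¹ * z) = 2 := by
  refine orderOf_two_of_mul_self ?_ fun e => h3 (inv_mul_eq_one.1 e)
  rw [inv_eq_of_orderOf_two h1] at h2 ⊢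
  calc a * z * (a * z) = a * z * a * z := by group
    _ = 1 := by rw [h2, inv_mul_cancel]

theorem nb_eq (z : G) :
    nb z = (els {a : G | orderOf a = 2 ∧ orderOf (a⁻¹ * z) = 2}).card := by
  rw [nb, card_els', ← Nat.card_coe_set_eq]; rfl

theorem nb_one : nb (1 : G) = (els {a : G | orderOf a = 2}).card := by
  rw [nb_eq]; congr 2; ext a; simp

theorem exists_pair (h : nb z ≠ 0) : ∃ a : G, orderOf a = 2 ∧ orderOf (a⁻¹ * z) = 2 := by
  rw [nb_eq] at h
  obtain ⟨a, ha⟩ := Finset.card_ne_zero.1 h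
  rw [mem_els] at ha
  exact ⟨a, ha⟩

/-- the number of elements of a coset -/
theorem card_coset (A : Subgroup G) (a : G) : (els {b : G | b * a ∈ A}).card = Nat.card A := by
  rw [← card_els]
  refine Finset.card_nbij' (· * a) (· * a⁻¹) ?_ ?_ (by intro _ _; simp) (by intro _ _; simp)
  · intro b hb
    simpa using hb
  · intro b hb
    simpa using hb

theorem A0_sum : ∑ z ∈ els (Set.univ : Set G), nb z = nb (1 : G) ^ 2 := by
  have h1 : ∀ z : G, nb z = ∑ a ∈ els {a : G | orderOf a = 2},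
      if orderOf (a⁻¹ * z) = 2 then 1 else 0 := fun z => by
    rw [nb_eq, ← Finset.card_filter]; congr 1; ext a; simp
  have h2 : ∀ a : G, (∑ z ∈ els (Set.univ : Set G), if orderOf (a⁻¹ * z) = 2 then 1 else 0) =
      nb (1 : G) := fun a => by
    rw [← Finset.card_filter, nb_one]
    refine Finset.card_nbij' (a⁻¹ * ·) (a * ·) ?_ ?_ (by intro _ _; simp) (by intro _ _; simp)
    · intro b hb
      simpa using hb
    · intro b hb
      simpa using hb
  rw [Finset.sum_congr rfl fun z _ => h1 z, Finset.sum_comm,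
    Finset.sum_congr rfl fun a _ => h2 a, Finset.sum_const, ← nb_one, smul_eq_mul, pow_two]

theorem one_mem_Zs : (1 : G) ∈ Zs K := fun _ _ _ h1 e => conj_ne_one h1 e

theorem conj_mem_Zs (g : G) (hz : z ∈ Zs K) : g * z * g⁻¹ ∈ Zs K := fun g' x hx h1 e =>
  hz (g⁻¹ * g') x hx h1 (by
    calc g⁻¹ * g' * x * (g⁻¹ * g')⁻¹ = g⁻¹ * (g' * x * g'⁻¹) * g := by group
      _ = z := by rw [e]; group)

theorem conj_mem_Zs_iff (g : G) : g * z * g⁻¹ ∈ Zs K ↔ z ∈ Zs K :=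
  ⟨fun h => by simpa [mul_assoc] using conj_mem_Zs g⁻¹ h, conj_mem_Zs g⟩

theorem notMem_Zs_iff : z ∉ Zs K ↔ ∃ g : G, ∃ x ∈ K, x ≠ 1 ∧ g * x * g⁻¹ = z := by
  simp [Zs]

theorem notMem_Zs (hx : x ∈ K) (h1 : x ≠ 1) : x ∉ Zs K :=
  notMem_Zs_iff.2 ⟨1, x, hx, h1, by simp⟩

namespace Hyp

theorem tt (h : Hyp K t s) : t * t = 1 := mul_self_of_orderOf_two h.t2
theorem t1 (h : Hyp K t s) : t ≠ 1 := ne_one_of_orderOf_two h.t2
theorem sinv (h : Hyp K t s) : s⁻¹ = s := inv_eq_of_mul_eq_one_right h.ss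

theorem out_sq (h : Hyp K t s) (hg : g * s ∈ K) : g * g = 1 := by
  have e := h.inv _ hg
  calc g * g = g * s * (s * (g * s) * s⁻¹) := by
        rw [← mul_assoc, ← mul_assoc, mul_assoc g s s, h.ss]; group
    _ = 1 := by rw [e, mul_inv_cancel]

theorem out_notMem (h : Hyp K t s) (hg : g * s ∈ K) : g ∉ K := fun hk =>
  h.sK (by simpa using mul_mem (inv_mem hk) hg)

theorem out_ord (h : Hyp K t s) (hg : g * s ∈ K) : orderOf g = 2 :=
  orderOf_two_of_mul_self (h.out_sq hg) fun e => h.out_notMem hg (e ▸ one_mem K)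

theorem out_inv (h : Hyp K t s) (hg : g * s ∈ K) (hx : x ∈ K) : g * x * g⁻¹ = x⁻¹ := by
  have e : g = g * s * s := by rw [mul_assoc, h.ss, mul_one]
  calc g * x * g⁻¹ = g * s * (s * x * s⁻¹) * (g * s)⁻¹ := by
        rw [← mul_assoc, ← mul_assoc, mul_assoc g s s, h.ss, mul_inv_rev, h.sinv,
          mul_assoc _ s, ← mul_assoc s s, h.ss]; group
    _ = x⁻¹ := by rw [h.inv x hx, h.comm _ hg _ (inv_mem hx)]; group

theorem eq_t (h : Hyp K t s) (hx : x ∈ K) (h1 : x ≠ 1) (h2 : x * x = 1) : x = t :=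
  h.uniq x hx (orderOf_two_of_mul_self h2 h1)

theorem cent_eq (h : Hyp K t s) (hx : x ∈ K) (h2 : x * x ≠ 1) : 𝐂[x] = K := by
  ext g
  rw [mem_cent1_iff]
  refine ⟨fun e => ?_, fun hg => h.comm g hg x hx⟩
  rcases (h.cent g).1 (h.ti x hx (fun e => h2 (by simp [e])) g e) with hg | hg
  · exact hg
  · have := h.out_inv hg hx
    rw [e, mul_inv_cancel_right] at this
    exact absurd (eq_inv_iff_mul_eq_one.1 this) h2

theorem conj_mem (h : Hyp K t s) (hg : g * t = t * g) (hx : x ∈ K) : g * x * g⁻¹ ∈ K := by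
  rcases (h.cent g).1 hg with hg | hg
  · exact mul_mem (mul_mem hg hx) (inv_mem hg)
  · rw [h.out_inv hg hx]; exact inv_mem hx

theorem inv_notMem_Zs (h : Hyp K t s) (ha : orderOf a = 2) : a ∉ Zs K := by
  obtain ⟨g, e⟩ := isConj_iff.1 (h.conj a ha)
  exact notMem_Zs_iff.2 ⟨g, t, h.tK, h.t1, e⟩

/-- the centralizer of an involution meets `Zs K` trivially -/
theorem eq_one_of_comm_t (h : Hyp K t s) (hz : z ∈ Zs K) (e : z * t = t * z) : z = 1 := by
  by_contra h1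
  rcases (h.cent z).1 e with hg | hg
  · exact notMem_Zs hg h1 hz
  · exact h.inv_notMem_Zs (h.out_ord hg) hz

end Hyp

theorem A0_cardH (h : Hyp K t s) : Nat.card (centralizer ({t} : Set G)) = 2 * Nat.card K := by
  have e : els ((centralizer ({t} : Set G) : Subgroup G) : Set G) =
      els (K : Set G) ∪ els {b : G | b * s ∈ K} := by
    ext g
    simp only [mem_els, SetLike.mem_coe, Finset.mem_union, Set.mem_ofPred_eq, mem_cent1_iff]
    exact h.cent g
  rw [← card_els, e, Finset.card_union_of_disjoint, card_els, card_coset, two_mul]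
  rw [Finset.disjoint_left]
  intro g h1 h2
  rw [mem_els] at h1 h2
  exact h.out_notMem h2 h1

theorem A0_ti (h : Hyp K t s) {x g : G} (hx : x ∈ K) (h1 : x ≠ 1) (hg : g * x * g⁻¹ ∈ K) :
    g * t = t * g := by
  have key : g * t * g⁻¹ ∈ K := by
    by_cases h2 : x * x = 1
    · rwa [← h.eq_t hx h1 h2]
    · have h3 : g * x * g⁻¹ * (g * x * g⁻¹) ≠ 1 := by
        rw [show g * x * g⁻¹ * (g * x * g⁻¹) = g * (x * x) * g⁻¹ by group]
        exact conj_ne_one h2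
      rw [← h.cent_eq hg h3, ← cj_cent1, h.cent_eq hx h2]
      exact conj_mem_cj h.tK
  have := h.uniq _ key (by rw [orderOf_conj, h.t2])
  rwa [mul_inv_eq_iff_eq_mul] at this

theorem A0_nbK (h : Hyp K t s) (hz : z ∉ Zs K) : nb z = Nat.card K := by
  obtain ⟨g, x, hx, h1, rfl⟩ := notMem_Zs_iff.1 hz
  rw [nb_conj, nb_eq, ← card_coset K s]
  congr 2
  ext a
  simp only [Set.mem_ofPred_eq]
  constructor
  · rintro ⟨a1, a2⟩
    have e := inv_of_pair a1 a2
    rcases (h.cent a).1 (A0_ti h hx h1 (e ▸ inv_mem hx)) with hg | hg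
    · have e1 := h.uniq a hg a1
      have e2 := h.uniq _ (mul_mem (inv_mem hg) hx) a2
      rw [e1, inv_mul_eq_iff_eq_mul, h.tt] at e2
      exact absurd e2 h1
    · exact hg
  · intro ha
    exact ⟨h.out_ord ha, pair_of_inv (h.out_ord ha) (h.out_inv ha hx)
      fun e => h.out_notMem ha (e ▸ hx)⟩

theorem A0_cardZc (h : Hyp K t s) :
    2 * Nat.card K * (els (Zs K)ᶜ).card = Nat.card G * (Nat.card K - 1) := by
  have e := card_ti (S := sharp K) (L := 𝐂[t]) ⟨t, h.tK, h.t1⟩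
    (fun g hg a ha => ⟨h.conj_mem (mem_cent1_iff.1 hg) ha.1, conj_ne_one ha.2⟩)
    (fun g a ha hg => mem_cent1_iff.2 (A0_ti h ha.1 ha.2 hg.1))
  rw [A0_cardH h] at e
  rw [← ncard_sharp K, Nat.add_sub_cancel, ← e, ncard_sharp]
  congr 3
  ext y
  simp only [Set.mem_compl_iff, notMem_Zs_iff, Set.mem_ofPred_eq, mem_sharp, and_assoc]

theorem A0_nb1 (h : Hyp K t s) : 2 * Nat.card K * nb (1 : G) = Nat.card G := by
  have e := card_ti (S := {t}) (L := 𝐂[t]) ⟨t, rfl⟩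
    (fun g hg a ha => by
      rw [Set.mem_singleton_iff.1 ha, mem_cent1_iff.1 hg]; simp)
    (fun g a ha hg => by
      rw [Set.mem_singleton_iff.1 ha, Set.mem_singleton_iff, mul_inv_eq_iff_eq_mul] at hg
      exact mem_cent1_iff.2 hg)
  rw [A0_cardH h, Set.ncard_singleton, mul_one] at e
  rw [← e, nb_one]
  congr 3
  ext y
  simp only [Set.mem_ofPred_eq, Set.mem_singleton_iff, exists_eq_left]
  exact ⟨fun hy => isConj_iff.1 (h.conj y hy), fun ⟨g, e⟩ => by rw [← e, orderOf_conj, h.t2]⟩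

theorem A0_centZ (h : Hyp K t s) (hz : z ∈ Zs K) (h1 : z ≠ 1) {y : G} (hy : y * z = z * y) :
    y ∈ Zs K := by
  by_contra hn
  obtain ⟨g, x, hx, h2, rfl⟩ := notMem_Zs_iff.1 hn
  have h3 : g⁻¹ * z * g⁻¹⁻¹ * x = x * (g⁻¹ * z * g⁻¹⁻¹) := by
    calc g⁻¹ * z * g⁻¹⁻¹ * x = g⁻¹ * (z * (g * x * g⁻¹)) * g := by group
      _ = x * (g⁻¹ * z * g⁻¹⁻¹) := by rw [← hy]; group
  exact conj_ne_one h1 (h.eq_one_of_comm_t (conj_mem_Zs g⁻¹ hz) (h.ti x hx h2 _ h3))

end Cfsg.Agent.BW
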