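import Cfsg.Agent.BW.C4

/-! Brauer-Suzuki-Wall, piece C: the conclusion of the character theory. -/

set_option autoImplicit false
set_option linter.unusedSectionVars false

namespace Cfsg.Agent.BW

open Subgroup Cfsg.Agent.FT
open scoped Classical ComplexConjugate

universe u
variable {G : Type u} [Group G] [Finite G]
variable {K : Subgroup G} {t s x z : G} {l0 c : G → ℂ}

theorem Dat.deg (d : Dat K l0 c) (h : Hyp K t s) (e0 : dot ⊤ (ph K l0) c = 1) :
    (c 1 = -(1 + 2 * ♯K) ∧ (Nat.card G : ℂ) = ♯K * (2 * ♯K + 1) * (2 * ♯K + 2)) ∨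
      (c 1 = 2 * ♯K - 1 ∧ (Nat.card G : ℂ) = ♯K * (2 * ♯K - 1) * (2 * ♯K - 2)) := by
  obtain ⟨a, b, η, η', e⟩ := d.exists_eta h e0
  have e1 := d.deg_eq h e0 η η' e
  obtain ⟨n, hn⟩ := η.deg d h
  have e2 := d.be_eq' h e0
  have h1 := d.one_sub_ne h
  have h2 := d.dc.one_ne_zero
  have h3 := cardC_ne_zero K
  have e3 : c 1 = -(1 + 2 * n * ♯K) := by rw [hn] at e1; linear_combination -e1
  have e4 : (Nat.card G : ℂ) * n ^ 2 = 2 * ♯K * ((1 + 2 * n * ♯K) * (1 + n * ♯K)) := by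
    field_simp at e2
    rw [e3] at e2
    have : (♯K : ℂ) ^ 2 * ((Nat.card G : ℂ) * n ^ 2) =
        (♯K : ℂ) ^ 2 * (2 * ♯K * ((1 + 2 * n * ♯K) * (1 + n * ♯K))) := by
      linear_combination (-1 / 4) * e2
    exact mul_left_cancel₀ (pow_ne_zero 2 h3) this
  have e5 : (nb (1 : G) : ℤ) * n ^ 2 = (1 + 2 * n * ♯K) * (1 + n * ♯K) := by
    rw [← A0_nb1 h] at e4
    push_cast at e4
    rw [mul_assoc] at e4
    exact_mod_cast mul_left_cancel₀ (mul_ne_zero two_ne_zero h3) e4
  have e6 : n * ((nb (1 : G) : ℤ) * n - 3 * ♯K - 2 * n * ♯K ^ 2) = 1 := by linear_combination e5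
  rcases Int.eq_one_or_neg_one_of_mul_eq_one e6 with rfl | rfl
  · left; push_cast at e3 e4; exact ⟨by linear_combination e3, by linear_combination e4⟩
  · right; push_cast at e3 e4; exact ⟨by linear_combination e3, by linear_combination e4⟩

theorem C_main (h : Hyp K t s) : Plus K ∨ Minus K := by
  obtain ⟨l0, c, d, e0⟩ := h.exists_dat
  have h3 := cardC_ne_zero K
  have h4 := h.four
  rcases d.deg h e0 with ⟨e1, e2⟩ | ⟨e1, e2⟩
  · refine Or.inl ⟨by exact_mod_cast e2, fun z hz => ?_⟩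
    have e3 := d.be_Z h e0 rfl (ρ := (2 * ♯K + 1) / (2 * ♯K)) (by
      rw [e1, e2]; field_simp; ring) hz
    have e4 : (nb z : ℂ) = 2 * ♯K + 1 + -c z * ♯K := by
      rw [e3, show (Nat.card G / (2 * ♯K) ^ 2 / c 1 : ℂ) = -(♯K + 1) / (2 * ♯K) by
        rw [div_eq_iff d.dc.one_ne_zero, e1, e2]; field_simp; ring, e2]
      field_simp; ring
    obtain ⟨u, hu⟩ := cint_of_rat_of_isIntegral (a := -c z) (q := (nb z - (2 * ♯K + 1)) / ♯K)
      (by push_cast; rw [e4]; field_simp; ring) (isIntegral_vchar d.dc.vchar z).neg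
    rw [hu] at e4
    exact ⟨u, by exact_mod_cast e4⟩
  · obtain ⟨k, hk⟩ : ∃ k, ♯K = k + 1 := ⟨♯K - 1, by omega⟩
    have h6 : (k : ℂ) ≠ 0 := by exact_mod_cast (by omega : k ≠ 0)
    have hk' : (♯K : ℂ) = k + 1 := by exact_mod_cast hk
    have e4 : ∀ z ∈ Zs K, (nb z : ℂ) = k * c z := fun z hz => by
      have e3 := d.be_Z h e0 rfl (ρ := -(2 * ♯K - 1) / (2 * ♯K)) (by
        rw [e1, e2]; field_simp; ring) hz
      rw [e3, show (Nat.card G / (2 * ♯K) ^ 2 / c 1 : ℂ) = (♯K - 1) / (2 * ♯K) by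
        rw [div_eq_iff d.dc.one_ne_zero, e1, e2]; field_simp, e2,
        show (k : ℂ) = ♯K - 1 by rw [hk']; ring]
      field_simp; ring
    refine Or.inr ⟨?_, fun z hz => ?_, ?_⟩
    · rw [hk'] at e2
      rw [hk, show 2 * (k + 1) - 1 = 2 * k + 1 by omega, show 2 * (k + 1) - 2 = 2 * k by omega]
      have : (Nat.card G : ℂ) = (k + 1) * (2 * k + 1) * (2 * k) := by linear_combination e2
      exact_mod_cast this
    · obtain ⟨u, hu⟩ := cint_of_rat_of_isIntegral (a := c z) (q := nb z / k)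
        (by push_cast; rw [e4 z hz]; field_simp) (isIntegral_vchar d.dc.vchar z)
      have e5 := e4 z hz
      rw [hu] at e5
      rw [hk, Nat.add_sub_cancel]
      exact Int.natCast_dvd_natCast.1 ⟨u, by exact_mod_cast e5⟩
    · have e5 := d.dc.dot_self
      have h7 : (Nat.card G : ℂ) ≠ 0 := by exact_mod_cast Nat.card_pos.ne'
      rw [dot, card_top, inv_mul_eq_one₀ h7, coe_top, sum_els_diff (Set.subset_univ (Zs K)),
        ← Set.compl_eq_univ_sdiff,
        Finset.sum_congr rfl (s₁ := els (Zs K)ᶜ) (g := fun _ => 1) fun y hy => by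
          have := mem_els.1 hy
          simp only [Zs, Set.mem_compl_iff, Set.mem_ofPred_eq, not_forall, not_not] at this
          obtain ⟨g, x, hx, h1, rfl⟩ := this
          rw [cfJ d.dc.cf (mem_top g), d.c_val h e0 hx h1]; simp,
        Finset.sum_const, nsmul_eq_mul, mul_one] at e5
      have e6 : ∑ z ∈ els (Zs K), (nb z : ℂ) ^ 2 = k ^ 2 * ∑ z ∈ els (Zs K), c z * conj (c z) := by
        rw [Finset.mul_sum]
        refine Finset.sum_congr rfl fun z hz => ?_
        have a1 := e4 z (mem_els.1 hz)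
        have a2 := congrArg conj a1
        rw [map_natCast, map_mul, map_natCast] at a2
        rw [pow_two]
        nth_rewrite 1 [a1]
        rw [a2]; ring
      rw [hk, Nat.add_sub_cancel]
      have : ∑ z ∈ els (Zs K), (nb z : ℂ) ^ 2 + k ^ 2 * (els (Zs K)ᶜ).card =
          k ^ 2 * Nat.card G := by rw [e6, e5]; ring
      exact_mod_cast this

end Cfsg.Agent.BW
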