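import Cfsg.Agent.BW.A0a
import Cfsg.Agent.L.Br2

/-! Brauer-Suzuki-Wall, piece C: induced characters from the T.I. set `K#`. -/

set_option autoImplicit false
set_option linter.unusedSectionVars false

namespace Cfsg.Agent.BW

open Subgroup Cfsg.Agent.FT
open scoped Classical ComplexConjugate

universe u
variable {G : Type u} [Group G] [Finite G]
variable {K : Subgroup G} {t s x z : G} {φ ξ l m : G → ℂ}

/-- the induced virtual character -/
noncomputable def th (K : Subgroup G) (l : G → ℂ) : G → ℂ := Ind K ⊤ (l - triv K)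

/-- the class function counting pairs of involutions -/
noncomputable def be (t : G) : G → ℂ := Br.prs (Br.cls ⊤ t)

theorem Hyp.cK (h : Hyp K t s) : K ≤ 𝐂(K) := fun x hx => mem_cent_iff.2 fun y hy => h.comm y hy x hx

theorem Hyp.lin (h : Hyp K t s) (hl : l ∈ Irr K) : Lin K l := lin_of_comm (comm_iff_le_cent.2 h.cK) hl

theorem Hyp.ind_K (h : Hyp K t s) (φ : G → ℂ) (hx : x ∈ K) (h1 : x ≠ 1) :
    Ind K ⊤ φ x = φ x + φ x⁻¹ := by
  have hs : s⁻¹ = s := inv_eq_of_mul_eq_one_left h.ss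
  rw [Ind_apply, ← sum_els_subset (A := {y | y ∈ K ∨ y * s ∈ K}) (B := (⊤ : Subgroup G))
    (fun _ _ => trivial) (fun y => Res K φ (y * x * y⁻¹))
    fun y _ hy => Res_of_not_mem _ fun e => hy ((h.cent y).1 (A0_ti h hx h1 e)),
    sum_els_diff (A := {y | y ∈ K ∨ y * s ∈ K}) (B := K) fun y hy => Or.inl hy,
    Finset.sum_congr rfl (s₁ := els (K : Set G)) (g := fun _ => φ x) fun y hy => by
      rw [h.comm y (mem_els.1 hy) x hx, mul_inv_cancel_right, Res_of_mem _ hx],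
    ← sum_els_bij (A := K) (B := {y | y ∈ K ∨ y * s ∈ K} \ K)
      (fun y => Res K φ (y * x * y⁻¹)) (· * s) (· * s) (fun y hy => ⟨Or.inr (by
      rwa [mul_assoc, h.ss, mul_one]), fun e => h.sK (by simpa using mul_mem (inv_mem hy) e)⟩)
      (fun y hy => hy.1.resolve_left hy.2) (fun y _ => by rw [mul_assoc, h.ss, mul_one])
      (fun y _ => by rw [mul_assoc, h.ss, mul_one]),
    Finset.sum_congr rfl (s₁ := els (K : Set G)) (g := fun _ => φ x⁻¹) fun y hy => by
      rw [show y * s * x * (y * s)⁻¹ = y * (s * x * s⁻¹) * y⁻¹ by group, h.inv x hx,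
        h.comm y (mem_els.1 hy) _ (inv_mem hx), mul_inv_cancel_right, Res_of_mem _ (inv_mem hx)],
    sum_els_const, sum_els_const]
  have := cardC_ne_zero K
  field_simp
  ring

theorem ind_Z (h0 : φ 1 = 0) (hz : z ∈ Zs K) : Ind K ⊤ φ z = 0 := by
  rw [Ind_apply, Finset.sum_eq_zero, mul_zero]
  intro y _
  by_cases e : y * z * y⁻¹ ∈ K
  · by_cases e1 : y * z * y⁻¹ = 1
    · rw [e1, Res_one, h0]
    · exact absurd (by group) (hz y⁻¹ _ e e1)
  · exact Res_of_not_mem _ e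

theorem th_CF (K : Subgroup G) (l : G → ℂ) : th K l ∈ CF ⊤ := Ind_mem_CF le_top _

theorem th_vchar (hl : l ∈ Irr K) : th K l ∈ VChar ⊤ :=
  Ind_vchar le_top (sub_mem (irr_vchar hl) (triv_vchar K))

theorem th_triv (K : Subgroup G) : th K (triv K) = 0 := by rw [th, sub_self, map_zero]

theorem Hyp.th_Z (h : Hyp K t s) (hl : l ∈ Irr K) (hz : z ∈ Zs K) : th K l z = 0 :=
  ind_Z (by simp [(h.lin hl).one]) hz

theorem dot_th (hξ : ξ ∈ CF ⊤) (l : G → ℂ) : dot ⊤ ξ (th K l) = dot K ξ (l - triv K) :=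
  dot_Ind_right le_top hξ _

theorem Hyp.dot_sharp (h : Hyp K t s) (hl : l ∈ Irr K) {ξ' : G → ℂ}
    (e : ∀ x ∈ K, x ≠ 1 → ξ x = ξ' x) : dot K ξ (l - triv K) = dot K ξ' (l - triv K) := by
  unfold dot
  congr 1
  refine Finset.sum_congr rfl fun x hx => ?_
  by_cases h1 : x = 1
  · simp [h1, (h.lin hl).one]
  · rw [e x (mem_els.1 hx) h1]

theorem Hyp.dot_th_th (h : Hyp K t s) (hl : l ∈ Irr K) (hm : m ∈ Irr K) (l1 : l ≠ triv K)
    (m1 : m ≠ triv K) : dot ⊤ (th K l) (th K m) =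
      2 + (if l = m then 1 else 0) + if star l = m then 1 else 0 := by
  have hs := star_mem_Irr hl
  have s1 : star l ≠ triv K := fun e => l1 (by rw [← star_star l, e, star_triv])
  rw [dot_th (th_CF K l), h.dot_sharp hm (ξ' := (l - triv K) + (star l - triv K)) fun x hx h1 => by
    rw [th, h.ind_K _ hx h1]
    simp [triv_of_mem hx, triv_of_mem (inv_mem hx), char_inv (irr_char hl)]]
  have e1 := Br.dot_one_sub hm hl m1 l1
  have e2 := Br.dot_one_sub hm hs m1 s1
  rw [← neg_sub, ← neg_sub m, dot_neg_left, dot_neg_right, neg_neg] at e1 e2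
  rw [dot_add_left, e1, e2]
  ring

theorem dot_triv_th (hl : l ∈ Irr K) (l1 : l ≠ triv K) : dot ⊤ (triv ⊤) (th K l) = -1 := by
  rw [dot_th (triv_mem_CF ⊤), ← dot_Res_left, Res_triv le_top, dot_sub_right, dot_triv_triv,
    dot_irr_ne (triv_mem_Irr K) hl l1.symm]
  ring

theorem Hyp.mem_cls (h : Hyp K t s) : x ∈ Br.cls ⊤ t ↔ orderOf x = 2 :=
  ⟨by rintro ⟨g, -, rfl⟩; rw [Br.orderOf_cj, h.t2], fun e => by
    obtain ⟨g, hg⟩ := isConj_iff.1 (h.conj x e); exact ⟨g, trivial, hg⟩⟩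

theorem Hyp.be_eq (h : Hyp K t s) (z : G) : be t z = nb z := by
  rw [be, Br.prs, nb, Finset.sum_boole, Nat.subtype_card]
  intro a
  simp [mem_els, h.mem_cls]

theorem be_CF (t : G) : be t ∈ CF ⊤ := Br.prs_CF (mem_top t)

theorem Hyp.dot_be_th (h : Hyp K t s) (hl : l ∈ Irr K) (l1 : l ≠ triv K) :
    dot ⊤ (be t) (th K l) = -♯K := by
  rw [dot_th (be_CF t), h.dot_sharp hl (ξ' := (♯K : ℂ) • triv K) fun x hx h1 => by
    rw [h.be_eq, A0_nbK h fun e => e 1 x hx h1 (by simp)]; simp [triv_of_mem hx],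
    dot_smul_left, dot_sub_right, dot_triv_triv, dot_irr_ne (triv_mem_Irr K) hl l1.symm]
  ring

theorem Hyp.dot_be (h : Hyp K t s) (hξ : Dirr ⊤ ξ) :
    dot ⊤ (be t) ξ = Nat.card G / (2 * ♯K) ^ 2 * (ξ t ^ 2 / ξ 1) := by
  have e : ∀ χ ∈ Irr (⊤ : Subgroup G),
      dot ⊤ (be t) χ = Nat.card G / (2 * ♯K) ^ 2 * (χ t ^ 2 / χ 1) := fun χ hχ => by
    rw [be, Br.dot_prs (mem_top t) h.tt hχ, top_inf_eq, card_top]
    have := A0_cardH h
    rw [show ♯𝐂[t] = 2 * ♯K from this]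
    push_cast; rfl
  rcases hξ with a | a
  · exact e _ a
  · have := e _ a
    rw [dot_neg_right] at this
    simp only [Pi.neg_apply, div_neg, neg_sq, mul_neg] at this
    exact neg_injective this

theorem Hyp.fourier (h : Hyp K t s) (hξ : ξ ∈ CF ⊤) (hx : x ∈ K) (h1 : x ≠ 1) :
    ξ x = ∑ μ ∈ Irr K, dot ⊤ ξ (th K μ) * μ x := by
  rw [Br.fourier h.cK ξ hx h1, ← Finset.sum_neg_distrib]
  refine Finset.sum_congr rfl fun μ _ => ?_
  rw [dot_th hξ, ← neg_sub μ, dot_neg_right]; ring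

theorem Hyp.card_real (h : Hyp K t s) : ((Irr K).filter fun l => l = star l).card = 2 := by
  have e1 : ∑ l ∈ Irr K, dot K l (star l) = (((Irr K).filter fun l => l = star l).card : ℂ) := by
    rw [← Finset.sum_boole]
    exact Finset.sum_congr rfl fun l hl => dot_irr hl (star_mem_Irr hl)
  have e2 : ∀ x ∈ els (K : Set G), ∑ l ∈ Irr K, l x * conj (star l x) = reg K (x * x) :=
    fun x hx => by
      rw [reg_eq_sum, Finset.sum_apply]
      exact Finset.sum_congr rfl fun l hl => by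
        simp [(h.lin hl).one, (h.lin hl).map_mul_left (mem_els.1 hx)]
  simp only [dot] at e1
  rw [← Finset.mul_sum, Finset.sum_comm, Finset.sum_congr rfl e2,
    ← Finset.sum_subset (s₁ := {1, t}) (by
      intro y hy
      rcases Finset.mem_insert.1 hy with rfl | hy
      · exact mem_els.2 (one_mem K)
      · rw [Finset.mem_singleton.1 hy]; exact mem_els.2 h.tK) fun y hy hy' => reg_of_ne K fun e => by
      simp only [Finset.mem_insert, Finset.mem_singleton, not_or] at hy'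
      exact hy'.2 (h.uniq y (mem_els.1 hy) (orderOf_eq_prime (by rw [pow_two, e]) hy'.1)),
    Finset.sum_pair h.t1.symm, h.tt, mul_one, reg_one] at e1
  have := cardC_ne_zero K
  have e3 : (((Irr K).filter fun l => l = star l).card : ℂ) = 2 := by rw [← e1]; field_simp; ring
  exact_mod_cast e3

theorem Hyp.exists_l0 (h : Hyp K t s) : ∃ l0 ∈ Irr K, l0 ≠ triv K ∧ star l0 = l0 ∧
    (∀ l ∈ Irr K, star l = l → l = triv K ∨ l = l0) ∧ ∃ l ∈ Irr K, star l ≠ l := by
  obtain ⟨a, b, hab, e⟩ := Finset.card_eq_two.1 h.card_real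
  have e' : ∀ l, l ∈ Irr K ∧ l = star l ↔ l = a ∨ l = b := fun l => by
    simpa using Finset.ext_iff.1 e l
  have h3 : ∃ l ∈ Irr K, star l ≠ l := by
    by_contra h'
    push Not at h'
    have h4 := h.card_real
    rw [Finset.filter_true_of_mem fun l hl => (h' l hl).symm,
      card_Irr_of_comm (comm_iff_le_cent.2 h.cK)] at h4
    have := h.four
    omega
  rcases (e' _).1 ⟨triv_mem_Irr K, (star_triv K).symm⟩ with e1 | e1
  · exact ⟨b, ((e' b).2 (Or.inr rfl)).1, e1 ▸ hab.symm, ((e' b).2 (Or.inr rfl)).2.symm,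
      fun l hl hs => e1 ▸ (e' l).1 ⟨hl, hs.symm⟩, h3⟩
  · exact ⟨a, ((e' a).2 (Or.inl rfl)).1, e1 ▸ hab, ((e' a).2 (Or.inl rfl)).2.symm,
      fun l hl hs => e1 ▸ ((e' l).1 ⟨hl, hs.symm⟩).symm, h3⟩

end Cfsg.Agent.BW
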