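import Cfsg.Agent.FT.Char4

/-! Brauer-Suzuki-Wall, piece C: the lattice lemma. -/

set_option autoImplicit false
set_option linter.unusedSectionVars false

namespace Cfsg.Agent.BW

open Subgroup Cfsg.Agent.FT
open scoped Classical ComplexConjugate

universe u
variable {G : Type u} [Group G] [Finite G]
variable {L : Subgroup G} {φ ψ a b c : G → ℂ}

theorem tri (h : φ ∈ VChar L) {n : ℕ} (hn : dot L φ φ = n) (h4 : n < 4) (hc : Dirr L c) :
    dot L φ c = 0 ∨ dot L φ c = 1 ∨ dot L φ c = -1 := by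
  by_cases e : dot L φ c = 0
  · exact Or.inl e
  · exact Or.inr (sgn_dot_of_small h (by rw [nrm_eq_of_dot_nat hn]; exact_mod_cast h4) hc e)

theorem two_split (h : φ ∈ VChar L) (hn : dot L φ φ = 2) :
    ∃ a b, Dirr L a ∧ Dirr L b ∧ dot L a b = 0 ∧ φ = a + b := by
  obtain ⟨a, b, ha, hb, e, rfl⟩ := vchar_nrm_two h (nrm_eq_of_dot (by simpa using hn))
  exact ⟨a, -b, ha, hb.neg, by rw [dot_neg_right, e, neg_zero], sub_eq_add_neg a b⟩

theorem orth_split (ha : Dirr L a) (hb : Dirr L b) (hc : Dirr L c) (hab : dot L a b = 0)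
    (h : dot L (a + b) c = 0) : dot L a c = 0 ∧ dot L b c = 0 := by
  rw [dot_add_left] at h
  have e : dot L a c = 0 := by
    by_contra e
    rcases ha.eq_or_neg hc e with rfl | rfl
    · rw [dot_symm_zero hab, add_zero] at h; exact e h
    · rw [dot_neg_left, neg_eq_zero] at hab
      rw [dot_symm_zero hab, add_zero] at h; exact e h
  exact ⟨e, by rwa [e, zero_add] at h⟩

theorem dirr_sub (h : φ ∈ VChar L) (hn : dot L φ φ = 2) (hc : Dirr L c) (e : dot L φ c = 1) :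
    Dirr L (φ - c) :=
  dirr_of_dot (sub_mem h hc.vchar) (by
    rw [dot_sub_left, dot_sub_right, dot_sub_right, hn, e, dot_symm_one e, hc.dot_self]; ring)

theorem tri_one {x y : ℂ} (hx : x = 0 ∨ x = 1 ∨ x = -1) (hy : y = 0 ∨ y = 1 ∨ y = -1)
    (h : x + y = 1) : (x = 1 ∧ y = 0) ∨ (x = 0 ∧ y = 1) := by
  rcases hx with rfl | rfl | rfl <;> rcases hy with rfl | rfl | rfl <;> revert h <;> norm_num

theorem tri_two {x y : ℂ} (hx : x = 0 ∨ x = 1 ∨ x = -1) (hy : y = 0 ∨ y = 1 ∨ y = -1)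
    (h : x + y = 2) : x = 1 ∧ y = 1 := by
  rcases hx with rfl | rfl | rfl <;> rcases hy with rfl | rfl | rfl <;> revert h <;> norm_num

theorem lattice {ι : Type*} {S : Set ι} {f : ι → G → ℂ} {i : ι} (hi : i ∈ S)
    (hv : ∀ j ∈ S, f j ∈ VChar L) (h2 : ∀ j ∈ S, dot L (f j) (f j) = 2)
    (h12 : ∀ j ∈ S, ∀ k ∈ S, dot L (f j) (f k) = 1 ∨ dot L (f j) (f k) = 2)
    (hφ : φ ∈ VChar L) (h3 : dot L φ φ = 3) (h1 : ∀ j ∈ S, dot L φ (f j) = 1) :
    ∃ c, Dirr L c ∧ (∀ j ∈ S, dot L (f j) c = 1) ∧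
      (dot L φ c = 1 ∨ (dot L φ c = 0 ∧ ∃ j ∈ S, ∃ k ∈ S, dot L (f j) (f k) = 1)) := by
  have t0 : ∀ c, Dirr L c → _ := fun c => tri hφ (n := 3) (by simpa using h3) (by norm_num) (c := c)
  have t1 : ∀ j ∈ S, ∀ c, Dirr L c → _ := fun j hj c =>
    tri (hv j hj) (n := 2) (by simpa using h2 j hj) (by norm_num) (c := c)
  obtain ⟨a, b, ha, hb, hab, e, e1, e2⟩ : ∃ a b, Dirr L a ∧ Dirr L b ∧ dot L a b = 0 ∧
      f i = a + b ∧ dot L φ a = 1 ∧ dot L φ b = 0 := by
    obtain ⟨a, b, ha, hb, hab, e⟩ := two_split (hv i hi) (h2 i hi)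
    have := h1 i hi
    rw [e, dot_add_right] at this
    rcases tri_one (t0 a ha) (t0 b hb) this with h | h
    · exact ⟨a, b, ha, hb, hab, e, h⟩
    · exact ⟨b, a, hb, ha, dot_symm_zero hab, by rw [e, add_comm], h.2, h.1⟩
  by_cases hA : ∀ j ∈ S, dot L (f j) a = 1
  · exact ⟨a, ha, hA, Or.inl e1⟩
  push Not at hA
  obtain ⟨j, hj, hja⟩ := hA
  have hji : dot L (f j) (f i) = 1 := (h12 j hj i hi).resolve_right fun h => by
    rw [e, dot_add_right] at h
    exact hja (tri_two (t1 j hj a ha) (t1 j hj b hb) h).1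
  have e3 := hji
  rw [e, dot_add_right] at e3
  obtain ⟨e4, e5⟩ := (tri_one (t1 j hj a ha) (t1 j hj b hb) e3).resolve_left fun h => hja h.1
  refine ⟨b, hb, fun k hk => ?_, Or.inr ⟨e2, j, hj, i, hi, hji⟩⟩
  by_contra hkb
  have hd := dirr_sub (hv j hj) (h2 j hj) hb e5
  have e6 : dot L φ (f j - b) = 1 := by rw [dot_sub_right, h1 j hj, e2, sub_zero]
  have e7 : dot L (f j - b) a = 0 := by rw [dot_sub_left, e4, dot_symm_zero hab, sub_zero]
  have e8 : dot L (f k) (b + (f j - b)) = dot L (f k) (f j) := by rw [add_sub_cancel]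
  generalize f j - b = d at hd e6 e7 e8
  have e9 : dot L (f k) a = 1 := by
    have := h12 k hk i hi
    rw [e, dot_add_right] at this
    rcases this with h | h
    · exact ((tri_one (t1 k hk a ha) (t1 k hk b hb) h).resolve_right fun h => hkb h.2).1
    · exact (tri_two (t1 k hk a ha) (t1 k hk b hb) h).1
  have e10 : dot L (f k) d = 1 := by
    have := h12 k hk j hj
    rw [← e8, dot_add_right] at this
    rcases this with h | h
    · exact ((tri_one (t1 k hk b hb) (t1 k hk d hd) h).resolve_left fun h => hkb h.1).2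
    · exact (tri_two (t1 k hk b hb) (t1 k hk d hd) h).2
  have e11 : f k - (a + d) = 0 := eq_zero_of_dot
    (vchar_CF (sub_mem (hv k hk) (add_mem ha.vchar hd.vchar))) (by
      simp only [dot_sub_left, dot_sub_right, dot_add_left, dot_add_right, h2 k hk, e9, e10,
        dot_symm_one e9, dot_symm_one e10, ha.dot_self, hd.dot_self, e7, dot_symm_zero e7]
      ring)
  have e12 := h1 k hk
  rw [sub_eq_zero.1 e11, dot_add_right, e1, e6] at e12
  norm_num at e12

end Cfsg.Agent.BW
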