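import Cfsg.Agent.BW.C1
import Cfsg.Agent.BW.C2

/-! Brauer-Suzuki-Wall, piece C: the exceptional characters. -/

set_option autoImplicit false
set_option linter.unusedSectionVars false

namespace Cfsg.Agent.BW

open Subgroup Cfsg.Agent.FT
open scoped Classical ComplexConjugate

universe u
variable {G : Type u} [Group G] [Finite G]
variable {K : Subgroup G} {t s x z : G} {φ ξ l m l0 c : G → ℂ}

/-- `θ + 1` -/
noncomputable def ph (K : Subgroup G) (l : G → ℂ) : G → ℂ := th K l + triv ⊤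

theorem ph_vchar (hl : l ∈ Irr K) : ph K l ∈ VChar ⊤ := add_mem (th_vchar hl) (triv_vchar ⊤)

theorem dot_triv_ph (hl : l ∈ Irr K) (l1 : l ≠ triv K) : dot ⊤ (triv ⊤) (ph K l) = 0 := by
  rw [ph, dot_add_right, dot_triv_th hl l1, dot_triv_triv]; ring

theorem dot_th_eq (ξ : G → ℂ) (l : G → ℂ) :
    dot ⊤ ξ (th K l) = dot ⊤ ξ (ph K l) - dot ⊤ ξ (triv ⊤) := by
  rw [ph, dot_add_right]; ring

theorem Hyp.dot_ph_ph (h : Hyp K t s) (hl : l ∈ Irr K) (hm : m ∈ Irr K) (l1 : l ≠ triv K)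
    (m1 : m ≠ triv K) : dot ⊤ (ph K l) (ph K m) =
      1 + (if l = m then 1 else 0) + if star l = m then 1 else 0 := by
  have e := dot_symm_zero (dot_triv_ph hl l1)
  have e1 := dot_th_eq (K := K) (ph K l) m
  rw [e, sub_zero] at e1
  rw [← e1, ph, dot_add_left, h.dot_th_th hl hm l1 m1, dot_triv_th hm m1]
  ring

theorem Hyp.ph_one (h : Hyp K t s) (hl : l ∈ Irr K) : ph K l 1 = 1 := by
  rw [ph, Pi.add_apply, h.th_Z hl one_mem_Zs, triv_one, zero_add]

theorem ne_triv (e : star l ≠ l) : l ≠ triv K := fun e' => e (by rw [e', star_triv])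

theorem star_ne_triv (e : star l ≠ l) : star l ≠ triv K := ne_triv (by rw [star_star]; exact e.symm)

theorem Hyp.t_sq (h : Hyp K t s) (hl : l ∈ Irr K) : l t * l t = 1 := by
  rw [← (h.lin hl).map_mul_left h.tK, h.tt, (h.lin hl).one]

theorem Hyp.star_t (h : Hyp K t s) (hl : l ∈ Irr K) : star l t = l t := by
  have := char_inv (irr_char hl) t
  rw [inv_eq_of_mul_eq_one_left h.tt] at this
  exact this.symm

/-- the configuration given by the lattice lemma -/
structure Dat (K : Subgroup G) (l0 c : G → ℂ) : Prop where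
  irr : l0 ∈ Irr K
  ne : l0 ≠ triv K
  st : star l0 = l0
  un : ∀ l ∈ Irr K, star l = l → l = triv K ∨ l = l0
  ex : ∃ l ∈ Irr K, star l ≠ l
  dc : Dirr ⊤ c
  d1 : ∀ l ∈ Irr K, star l ≠ l → dot ⊤ (ph K l) c = 1

theorem Dat.c1 (d : Dat K l0 c) : dot ⊤ c (triv ⊤) = 0 := by
  obtain ⟨l, hl, e⟩ := d.ex
  have e1 := d.d1 l hl e
  have e2 := dot_symm_zero (dot_triv_ph hl (ne_triv e))
  by_contra e3
  rcases d.dc.eq_or_neg (irr_dirr (triv_mem_Irr ⊤)) e3 with rfl | rfl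
  · rw [e2] at e1; norm_num at e1
  · rw [dot_neg_right, e2] at e1; norm_num at e1

theorem Dat.ne0 (d : Dat K l0 c) (e : star l ≠ l) : l ≠ l0 := fun e' => e (by rw [e', d.st])

theorem Dat.ne0' (d : Dat K l0 c) (e : star l ≠ l) : star l ≠ l0 :=
  d.ne0 (by rw [star_star]; exact e.symm)

theorem Dat.psi (d : Dat K l0 c) (h : Hyp K t s) (hl : l ∈ Irr K) (e : star l ≠ l) :
    Dirr ⊤ (ph K l - c) :=
  dirr_sub (ph_vchar hl) (by
    rw [h.dot_ph_ph hl hl (ne_triv e) (ne_triv e), if_pos rfl, if_neg e]; ring) d.dc (d.d1 l hl e)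

theorem Dat.psi1 (d : Dat K l0 c) (hl : l ∈ Irr K) (l1 : l ≠ triv K) :
    dot ⊤ (ph K l - c) (triv ⊤) = 0 := by
  rw [dot_sub_left, d.c1, dot_symm_zero (dot_triv_ph hl l1), sub_zero]

theorem Dat.psi_th (d : Dat K l0 c) (h : Hyp K t s) (hl : l ∈ Irr K) (e : star l ≠ l)
    (hm : m ∈ Irr K) : dot ⊤ (ph K l - c) (th K m) = (if l = m then 1 else 0) +
      (if star l = m then 1 else 0) + if l0 = m then 1 - dot ⊤ c (ph K l0) else 0 := by
  by_cases m1 : m = triv K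
  · rw [m1, th_triv, dot_zero_right, if_neg (ne_triv e), if_neg (star_ne_triv e), if_neg d.ne]
    ring
  rw [dot_th_eq, d.psi1 hl (ne_triv e), dot_sub_left, h.dot_ph_ph hl hm (ne_triv e) m1]
  by_cases e1 : star m = m
  · rw [(d.un m hm e1).resolve_left m1, if_pos rfl]; ring
  · rw [if_neg (d.ne0 e1).symm, dot_symm_one (d.d1 m hm e1)]; ring

theorem Dat.psi_val (d : Dat K l0 c) (h : Hyp K t s) (hl : l ∈ Irr K) (e : star l ≠ l) :
    (ph K l - c) t = 2 * l t + (1 - dot ⊤ c (ph K l0)) * l0 t := by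
  rw [h.fourier (d.psi h hl e).cf h.tK h.t1,
    Finset.sum_congr rfl fun m hm => by rw [d.psi_th h hl e hm]]
  simp only [add_mul, ite_mul, one_mul, zero_mul, Finset.sum_add_distrib, Finset.sum_ite_eq, hl,
    star_mem_Irr hl, d.irr, if_true, h.star_t hl]
  ring

theorem Hyp.be_triv (h : Hyp K t s) : dot ⊤ (be t) (triv ⊤) = Nat.card G / (2 * ♯K) ^ 2 := by
  rw [h.dot_be (irr_dirr (triv_mem_Irr ⊤)), triv_of_mem (mem_top t), triv_one]; ring

theorem Dat.be_eq (d : Dat K l0 c) (h : Hyp K t s) (hl : l ∈ Irr K) (e : star l ≠ l) :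
    (-♯K : ℂ) = Nat.card G / (2 * ♯K) ^ 2 * (-1 + c t ^ 2 / c 1 +
      (2 * l t + (1 - dot ⊤ c (ph K l0)) * l0 t) ^ 2 / (1 - c 1)) := by
  have e1 := h.dot_be (d.psi h hl e)
  rw [d.psi_val h hl e, Pi.sub_apply, h.ph_one hl, dot_sub_right, h.dot_be d.dc] at e1
  rw [← h.dot_be_th hl (ne_triv e), dot_th_eq, h.be_triv]
  linear_combination e1

theorem kap_ne (K : Subgroup G) : (Nat.card G / (2 * ♯K) ^ 2 : ℂ) ≠ 0 := by
  have := cardC_ne_zero K
  have h1 : (Nat.card G : ℂ) ≠ 0 := by exact_mod_cast Nat.card_pos.ne'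
  exact div_ne_zero h1 (pow_ne_zero _ (mul_ne_zero two_ne_zero this))

theorem Dat.one_sub_ne (d : Dat K l0 c) (h : Hyp K t s) : 1 - c 1 ≠ 0 := by
  obtain ⟨l, hl, e⟩ := d.ex
  have := (d.psi h hl e).one_ne_zero
  rwa [Pi.sub_apply, h.ph_one hl] at this

theorem Dat.case2 (d : Dat K l0 c) (h : Hyp K t s) (h0 : dot ⊤ (ph K l0) c = 0) (hl : l ∈ Irr K)
    (e : star l ≠ l) (hm : m ∈ Irr K) (e' : star m ≠ m) (e1 : l ≠ m) (e2 : star l ≠ m) : False := by
  have h1 : ∀ m ∈ Irr K, star m ≠ m → m t = l t := fun m hm e' => by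
    have a1 := d.be_eq h hl e
    rw [d.be_eq h hm e', dot_symm_zero h0] at a1
    have a2 := add_left_cancel (mul_left_cancel₀ (kap_ne K) a1)
    rw [div_left_inj' (d.one_sub_ne h)] at a2
    have a3 := h.t_sq hl
    have a4 := h.t_sq hm
    have a5 := h.t_sq d.irr
    linear_combination (l0 t / 4) * a2 - (l0 t) * a4 + (l0 t) * a3 - (m t - l t) * a5
  have h2 := Br.sum_irr_comm h.cK h.t1
  rw [← Finset.sum_filter_add_sum_filter_not _ fun l => l = star l,
    Finset.sum_congr rfl (s₁ := Finset.filter (fun l => ¬ l = star l) _) (g := fun _ => l t)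
      fun m hm => h1 m (Finset.mem_filter.1 hm).1 (Ne.symm (Finset.mem_filter.1 hm).2),
    Finset.sum_const, nsmul_eq_mul] at h2
  have h3 : 3 ≤ (Finset.filter (fun l => ¬ l = star l) (Irr K)).card := by
    rw [← Finset.card_eq_three.2 ⟨l, star l, m, e.symm, e1, e2, rfl⟩]
    refine Finset.card_le_card fun y hy => ?_
    simp only [Finset.mem_insert, Finset.mem_singleton] at hy
    rcases hy with rfl | rfl | rfl
    · exact Finset.mem_filter.2 ⟨hl, e.symm⟩
    · exact Finset.mem_filter.2 ⟨star_mem_Irr hl, by rw [star_star]; exact e⟩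
    · exact Finset.mem_filter.2 ⟨hm, e'.symm⟩
  have h4 := norm_sum_le (Finset.filter (fun l => l = star l) (Irr K)) fun l => l t
  rw [Finset.sum_congr rfl (g := fun _ => (1 : ℝ)) fun m hm =>
    (h.lin (Finset.mem_filter.1 hm).1).norm_eq h.tK, Finset.sum_const, h.card_real,
    eq_neg_of_add_eq_zero_left h2, norm_neg, norm_mul, (h.lin hl).norm_eq h.tK,
    Complex.norm_natCast] at h4
  have h5 : (3 : ℝ) ≤ (Finset.filter (fun l => ¬ l = star l) (Irr K)).card := by exact_mod_cast h3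
  norm_num at h4
  linarith

theorem Hyp.exists_dat (h : Hyp K t s) : ∃ l0 c, Dat K l0 c ∧ dot ⊤ (ph K l0) c = 1 := by
  obtain ⟨l0, h1, h2, h3, h4, l, hl, e⟩ := h.exists_l0
  obtain ⟨c, hc, h5, h6⟩ := lattice (L := ⊤) (S := {l | l ∈ Irr K ∧ star l ≠ l}) (f := ph K)
    (i := l) (φ := ph K l0) ⟨hl, e⟩ (fun j hj => ph_vchar hj.1)
    (fun j hj => by
      rw [h.dot_ph_ph hj.1 hj.1 (ne_triv hj.2) (ne_triv hj.2), if_pos rfl, if_neg hj.2]; ring)
    (fun j hj k hk => by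
      rw [h.dot_ph_ph hj.1 hk.1 (ne_triv hj.2) (ne_triv hk.2)]
      by_cases a : j = k
      · rw [if_pos a, if_neg (a ▸ hj.2)]; right; ring
      · rw [if_neg a]; split_ifs
        · right; ring
        · left; ring)
    (ph_vchar h1) (by rw [h.dot_ph_ph h1 h1 h2 h2, if_pos rfl, if_pos h3]; ring)
    (fun j hj => by
      have : l0 ≠ j := fun a => hj.2 (by rw [← a, h3])
      rw [h.dot_ph_ph h1 hj.1 h2 (ne_triv hj.2), h3, if_neg this]; ring)
  have d : Dat K l0 c := ⟨h1, h2, h3, h4, ⟨l, hl, e⟩, hc, fun l hl e => h5 l ⟨hl, e⟩⟩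
  refine ⟨l0, c, d, h6.resolve_right ?_⟩
  rintro ⟨h7, j, hj, k, hk, h8⟩
  rw [h.dot_ph_ph hj.1 hk.1 (ne_triv hj.2) (ne_triv hk.2)] at h8
  refine d.case2 h h7 hj.1 hj.2 hk.1 hk.2 (fun a => ?_) fun a => ?_
  · rw [if_pos a, if_neg (a ▸ hj.2)] at h8; norm_num at h8
  · rw [if_pos a, if_neg fun b => hj.2 (a.trans b.symm)] at h8; norm_num at h8

end Cfsg.Agent.BW
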