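import Cfsg.Agent.BW.C3

/-! Brauer-Suzuki-Wall, piece C: degrees and the values of `nb`. -/

set_option autoImplicit false
set_option linter.unusedSectionVars false

namespace Cfsg.Agent.BW

open Subgroup Cfsg.Agent.FT
open scoped Classical ComplexConjugate

universe u
variable {G : Type u} [Group G] [Finite G]
variable {K : Subgroup G} {t s x z : G} {φ ξ l m l0 c a b : G → ℂ}

theorem Hyp.sum_ite (h : Hyp K t s) (w : ℂ) :
    ∑ m ∈ Irr K, (if triv K = m then 0 else w) = (♯K - 1) * w := by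
  rw [Finset.sum_congr rfl (g := fun m => w - if triv K = m then w else 0) fun m _ => by
    split_ifs <;> simp, Finset.sum_sub_distrib, Finset.sum_ite_eq, if_pos (triv_mem_Irr K),
    Finset.sum_const, card_Irr_of_comm (comm_iff_le_cent.2 h.cK), nsmul_eq_mul]
  ring

theorem Dat.c_th (d : Dat K l0 c) (e0 : dot ⊤ (ph K l0) c = 1) (hm : m ∈ Irr K) :
    dot ⊤ c (th K m) = if triv K = m then 0 else 1 := by
  split_ifs with m1
  · rw [← m1, th_triv, dot_zero_right]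
  rw [dot_th_eq, d.c1, sub_zero]
  by_cases e1 : star m = m
  · rw [(d.un m hm e1).resolve_left (Ne.symm m1), dot_symm_one e0]
  · exact dot_symm_one (d.d1 m hm e1)

theorem Dat.c_val (d : Dat K l0 c) (h : Hyp K t s) (e0 : dot ⊤ (ph K l0) c = 1) (hx : x ∈ K)
    (h1 : x ≠ 1) : c x = -1 := by
  rw [h.fourier d.dc.cf hx h1, Finset.sum_congr rfl
    (g := fun m => m x - if triv K = m then m x else 0) fun m hm => by
      rw [d.c_th e0 hm]; split_ifs <;> simp, Finset.sum_sub_distrib, Finset.sum_ite_eq,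
    if_pos (triv_mem_Irr K), Br.sum_irr_comm h.cK h1, triv_of_mem hx]
  ring

/-- the two remaining constituents of `θ` for the real character -/
structure Eta (K : Subgroup G) (l0 c a : G → ℂ) : Prop where
  di : Dirr ⊤ a
  dc : dot ⊤ a c = 0
  d1 : dot ⊤ a (triv ⊤) = 0
  dt : ∀ m ∈ Irr K, dot ⊤ a (th K m) = if l0 = m then 1 else 0

theorem Dat.eta (d : Dat K l0 c) (h : Hyp K t s) (e0 : dot ⊤ (ph K l0) c = 1) (ha : Dirr ⊤ a)
    (hb : Dirr ⊤ b) (hab : dot ⊤ a b = 0) (e : ph K l0 - c = a + b) : Eta K l0 c a := by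
  have h1 := (orth_split ha hb d.dc hab (by rw [← e, dot_sub_left, e0, d.dc.dot_self, sub_self])).1
  have h2 := (orth_split ha hb (irr_dirr (triv_mem_Irr ⊤)) hab
    (by rw [← e, d.psi1 d.irr d.ne])).1
  refine ⟨ha, h1, h2, fun m hm => ?_⟩
  by_cases m1 : m = triv K
  · rw [m1, th_triv, dot_zero_right, if_neg d.ne]
  rw [dot_th_eq, h2, sub_zero]
  by_cases e1 : star m = m
  · rw [(d.un m hm e1).resolve_left m1, if_pos rfl, sub_eq_iff_eq_add.1 e, dot_add_right,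
      dot_add_right, ha.dot_self, hab, h1]; ring
  · have h3 := (orth_split ha hb (d.psi h hm e1) hab (by
      rw [← e, dot_sub_left, dot_sub_right, dot_sub_right, h.dot_ph_ph d.irr hm d.ne m1, d.st,
        if_neg (d.ne0 e1).symm, e0, dot_symm_one (d.d1 m hm e1), d.dc.dot_self]; ring)).1
    rwa [dot_sub_right, h1, sub_zero, ← if_neg (t := (1 : ℂ)) (e := 0) (d.ne0 e1).symm] at h3

theorem Dat.exists_eta (d : Dat K l0 c) (h : Hyp K t s) (e0 : dot ⊤ (ph K l0) c = 1) :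
    ∃ a b, Eta K l0 c a ∧ Eta K l0 c b ∧ ph K l0 - c = a + b := by
  obtain ⟨a, b, ha, hb, hab, e⟩ := two_split (sub_mem (ph_vchar d.irr) d.dc.vchar) (by
    rw [dot_sub_left, dot_sub_right, dot_sub_right, h.dot_ph_ph d.irr d.irr d.ne d.ne, d.st,
      if_pos rfl, e0, dot_symm_one e0, d.dc.dot_self]; ring)
  exact ⟨a, b, d.eta h e0 ha hb hab e,
    d.eta h e0 hb ha (dot_symm_zero hab) (by rw [e, add_comm]), e⟩

theorem Eta.val (η : Eta K l0 c a) (d : Dat K l0 c) (h : Hyp K t s) (hx : x ∈ K) (h1 : x ≠ 1) :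
    a x = l0 x := by
  rw [h.fourier η.di.cf hx h1, Finset.sum_congr rfl fun m hm => by rw [η.dt m hm]]
  simp only [ite_mul, one_mul, zero_mul, Finset.sum_ite_eq, d.irr, if_true]

theorem Eta.be (η : Eta K l0 c a) (d : Dat K l0 c) (h : Hyp K t s) :
    dot ⊤ (be t) a = Nat.card G / (2 * ♯K) ^ 2 / a 1 := by
  rw [h.dot_be η.di, η.val d h h.tK h.t1, pow_two (l0 t), h.t_sq d.irr]; ring

theorem Eta.deg (η : Eta K l0 c a) (d : Dat K l0 c) (h : Hyp K t s) :
    ∃ n : ℤ, a 1 = 1 + n * ♯K := by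
  obtain ⟨n, hn⟩ := cint_dot_Res_vchar le_top η.di.vchar (triv_vchar K)
  have e := dot_irr_triv d.irr d.ne
  rw [dot_triv_right, sum_els_sharp] at hn e
  rw [Finset.sum_congr rfl (g := l0) fun x hx => η.val d h (mem_els.1 hx).1 (mem_els.1 hx).2] at hn
  rw [(h.lin d.irr).one] at e
  have := cardC_ne_zero K
  refine ⟨n, ?_⟩
  field_simp at hn e
  linear_combination hn - e

theorem Dat.be_c (d : Dat K l0 c) (h : Hyp K t s) (e0 : dot ⊤ (ph K l0) c = 1) :
    dot ⊤ (be t) c = Nat.card G / (2 * ♯K) ^ 2 / c 1 := by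
  rw [h.dot_be d.dc, d.c_val h e0 h.tK h.t1]; ring

theorem Dat.be_eq' (d : Dat K l0 c) (h : Hyp K t s) (e0 : dot ⊤ (ph K l0) c = 1) :
    (-♯K : ℂ) = Nat.card G / (2 * ♯K) ^ 2 * (-1 + 1 / c 1 + 4 / (1 - c 1)) := by
  obtain ⟨l, hl, e⟩ := d.ex
  rw [d.be_eq h hl e, dot_symm_one e0, d.c_val h e0 h.tK h.t1, sub_self, zero_mul, add_zero,
    mul_pow 2 (l t), pow_two (l t), h.t_sq hl]
  ring

theorem Dat.deg_eq (d : Dat K l0 c) (h : Hyp K t s) (e0 : dot ⊤ (ph K l0) c = 1)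
    (η : Eta K l0 c a) (η' : Eta K l0 c b) (e : ph K l0 - c = a + b) : 1 - c 1 = 2 * a 1 := by
  have e1 := d.be_eq' h e0
  have e2 := congrFun e 1
  rw [Pi.sub_apply, h.ph_one d.irr, Pi.add_apply] at e2
  rw [← h.dot_be_th d.irr d.ne, dot_th_eq, sub_eq_iff_eq_add.1 e, dot_add_right, dot_add_right,
    η.be d h, η'.be d h, d.be_c h e0, h.be_triv] at e1
  have e3 : (Nat.card G / (2 * ♯K) ^ 2 : ℂ) * (1 / a 1 + 1 / b 1) =
      Nat.card G / (2 * ♯K) ^ 2 * (4 / (1 - c 1)) := by linear_combination e1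
  have e4 := mul_left_cancel₀ (kap_ne K) e3
  have h1 := d.one_sub_ne h
  have h2 := η.di.one_ne_zero
  have h3 := η'.di.one_ne_zero
  rw [e2] at e4 h1 ⊢
  field_simp at e4
  have e5 : (a 1 - b 1) ^ 2 = 0 := by linear_combination e4
  linear_combination -(pow_eq_zero_iff two_ne_zero).1 e5

theorem Dat.be_Z (d : Dat K l0 c) (h : Hyp K t s) (e0 : dot ⊤ (ph K l0) c = 1) {κ ρ : ℂ}
    (hκ : κ = Nat.card G / (2 * ♯K) ^ 2) (hρ : ρ * (1 - c 1) = 2 * κ) (hz : z ∈ Zs K) :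
    (nb z : ℂ) = κ + ρ * (♯K - 1) + (κ / c 1 - ρ * (♯K - 1)) * c z := by
  obtain ⟨a, b, η, η', e⟩ := d.exists_eta h e0
  have h1 := d.one_sub_ne h
  obtain ⟨R, hR⟩ : ∃ R : G → ℂ, R = (κ + ρ * (♯K - 1)) • triv ⊤ + (κ / c 1 - ρ * (♯K - 1)) • c +
    ρ • ∑ m ∈ Irr K, th K m := ⟨_, rfl⟩
  have hd : ∀ ξ, Dirr ⊤ ξ → dot ⊤ R ξ = (κ + ρ * (♯K - 1)) * dot ⊤ ξ (triv ⊤) +
      (κ / c 1 - ρ * (♯K - 1)) * dot ⊤ ξ c + ρ * ∑ m ∈ Irr K, dot ⊤ ξ (th K m) := fun ξ hξ => by
    rw [hR, dot_add_left, dot_add_left, dot_smul_left, dot_smul_left, dot_smul_left, dot_sum_left,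
      dot_vchar_comm (triv_vchar ⊤) hξ.vchar, dot_vchar_comm d.dc.vchar hξ.vchar,
      Finset.sum_congr rfl fun m hm => dot_vchar_comm (th_vchar hm) hξ.vchar]
  have hη : ∀ a, Eta K l0 c a → 1 - c 1 = 2 * a 1 → dot ⊤ (be t) a = dot ⊤ R a := fun a η e => by
    rw [hd a η.di, η.be d h, η.dc, η.d1, Finset.sum_congr rfl η.dt, Finset.sum_ite_eq,
      if_pos d.irr, ← hκ, div_eq_iff η.di.one_ne_zero]
    linear_combination (-1 / 2) * hρ + (ρ / 2) * e
  have e1 : be t = R := cf_eq_of_dot (be_CF t) (hR ▸ add_mem (add_mem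
    (Submodule.smul_mem _ _ (triv_mem_CF ⊤)) (Submodule.smul_mem _ _ d.dc.cf))
    (Submodule.smul_mem _ _ (sum_mem fun m _ => th_CF K m))) fun χ hχ => by
    have hP : ∀ ξ, Dirr ⊤ ξ → dot ⊤ (be t) ξ = dot ⊤ R ξ → ¬ dot ⊤ χ ξ = 0 →
        dot ⊤ (be t) χ = dot ⊤ R χ := fun ξ hξ e e' => by
      rcases (irr_dirr hχ).eq_or_neg hξ e' with rfl | rfl
      · exact e
      · rw [dot_neg_right, dot_neg_right, e]
    by_cases a1 : dot ⊤ χ (triv ⊤) = 0
    swap
    · refine hP _ (irr_dirr (triv_mem_Irr ⊤)) ?_ a1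
      rw [hd _ (irr_dirr (triv_mem_Irr ⊤)), h.be_triv, dot_triv_triv, dot_symm_zero d.c1,
        Finset.sum_congr rfl (g := fun m => if triv K = m then 0 else -1) fun m hm => by
          split_ifs with m1
          · rw [← m1, th_triv, dot_zero_right]
          · exact dot_triv_th hm (Ne.symm m1), h.sum_ite, ← hκ]
      ring
    by_cases a2 : dot ⊤ χ c = 0
    swap
    · refine hP _ d.dc ?_ a2
      rw [hd _ d.dc, d.be_c h e0, d.c1, d.dc.dot_self,
        Finset.sum_congr rfl fun m hm => d.c_th e0 hm, h.sum_ite, ← hκ]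
      ring
    by_cases a3 : dot ⊤ χ a = 0
    swap
    · exact hP _ η.di (hη a η (d.deg_eq h e0 η η' e)) a3
    by_cases a4 : dot ⊤ χ b = 0
    swap
    · exact hP _ η'.di (hη b η' (d.deg_eq h e0 η' η (by rw [e, add_comm]))) a4
    by_cases a5 : ∀ l ∈ Irr K, star l ≠ l → dot ⊤ χ (ph K l - c) = 0
    swap
    · push Not at a5
      obtain ⟨l, hl, e2, a5⟩ := a5
      refine hP _ (d.psi h hl e2) ?_ a5
      rw [hd _ (d.psi h hl e2), h.dot_be (d.psi h hl e2), d.psi_val h hl e2,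
        d.psi1 hl (ne_triv e2), Finset.sum_congr rfl fun m hm => d.psi_th h hl e2 hm,
        dot_sub_left, d.d1 l hl e2, d.dc.dot_self, dot_symm_one e0, Pi.sub_apply, h.ph_one hl, ← hκ]
      simp only [Finset.sum_add_distrib, Finset.sum_ite_eq, hl, star_mem_Irr hl, d.irr, if_true,
        sub_self, zero_mul, add_zero, mul_zero, zero_add, mul_pow, pow_two (l t), h.t_sq hl]
      field_simp
      linear_combination (-2) * hρ
    have a6 : ∀ m ∈ Irr K, dot ⊤ χ (th K m) = 0 := fun m hm => by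
      by_cases m1 : m = triv K
      · rw [m1, th_triv, dot_zero_right]
      rw [dot_th_eq, a1, sub_zero]
      by_cases e1 : star m = m
      · rw [(d.un m hm e1).resolve_left m1, sub_eq_iff_eq_add.1 e, dot_add_right,
          dot_add_right, a2, a3, a4]; ring
      · have := a5 m hm e1
        rwa [dot_sub_right, a2, sub_zero] at this
    rw [hd _ (irr_dirr hχ), h.dot_be (irr_dirr hχ), h.fourier (irr_CF hχ) h.tK h.t1, a1, a2,
      Finset.sum_eq_zero a6, Finset.sum_eq_zero fun m hm => by rw [a6 m hm, zero_mul]]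
    ring
  rw [← h.be_eq, e1, hR]
  simp only [Pi.add_apply, Pi.smul_apply, smul_eq_mul, Finset.sum_apply, triv_of_mem (mem_top z)]
  rw [Finset.sum_eq_zero fun m hm => h.th_Z hm hz]
  ring

end Cfsg.Agent.BW
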