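import Cfsg.Agent.FT.Char4

/-! The Brauer-Suzuki-Wall theorem: definitions (see `notes/bsw_plan.md`). -/

set_option autoImplicit false
set_option linter.unusedSectionVars false

namespace Cfsg.Agent.BW

open Subgroup Cfsg.Agent.FT
open scoped Classical

universe u
variable {G : Type u} [Group G] [Finite G]

/-- the hypothesis of the Brauer-Suzuki-Wall theorem: `C(t) = K ∪ K s`. -/
structure Hyp (K : Subgroup G) (t s : G) : Prop where
  t2 : orderOf t = 2
  conj : ∀ u : G, orderOf u = 2 → IsConj t u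
  tK : t ∈ K
  comm : ∀ x ∈ K, ∀ y ∈ K, x * y = y * x
  uniq : ∀ u ∈ K, orderOf u = 2 → u = t
  four : 4 ≤ Nat.card K
  ss : s * s = 1
  sK : s ∉ K
  inv : ∀ x ∈ K, s * x * s⁻¹ = x⁻¹
  cent : ∀ g : G, g * t = t * g ↔ g ∈ K ∨ g * s ∈ K
  ti : ∀ x ∈ K, x ≠ 1 → ∀ g : G, g * x = x * g → g * t = t * g

/-- the elements not conjugate into `K#` (it contains `1`) -/
def Zs (K : Subgroup G) : Set G := {z | ∀ g : G, ∀ x ∈ K, x ≠ 1 → g * x * g⁻¹ ≠ z}

/-- the number of pairs of involutions with product `z` -/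
noncomputable def nb (z : G) : ℕ := Nat.card {a : G // orderOf a = 2 ∧ orderOf (a⁻¹ * z) = 2}

/-- output of the character theory, case `q = 2k + 1` -/
def Plus (K : Subgroup G) : Prop :=
  Nat.card G = Nat.card K * (2 * Nat.card K + 1) * (2 * Nat.card K + 2) ∧
    ∀ z ∈ Zs K, ∃ u : ℤ, (nb z : ℤ) = 2 * Nat.card K + 1 + u * Nat.card K

/-- output of the character theory, case `q = 2k - 1` -/
def Minus (K : Subgroup G) : Prop :=
  Nat.card G = Nat.card K * (2 * Nat.card K - 1) * (2 * Nat.card K - 2) ∧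
    (∀ z ∈ Zs K, Nat.card K - 1 ∣ nb z) ∧
    ∑ z ∈ els (Zs K), nb z ^ 2 + (Nat.card K - 1) ^ 2 * (els (Zs K)ᶜ).card =
      (Nat.card K - 1) ^ 2 * Nat.card G

/-- a Zassenhaus group of degree `q + 1` and order `q (q² - 1) / 2` -/
structure ZH (Q T : Subgroup G) (w : G) (q : ℕ) : Prop where
  cQ : Nat.card Q = q
  q7 : 7 ≤ q
  comm : ∀ x ∈ Q, ∀ y ∈ Q, x * y = y * x
  ti : ∀ x ∈ Q, x ≠ 1 → ∀ g : G, g * x = x * g → g ∈ Q
  TN : T ≤ normalizer (Q : Set G)
  commT : ∀ x ∈ T, ∀ y ∈ T, x * y = y * x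
  cT : 2 * Nat.card T + 1 = q
  cN : Nat.card (normalizer (Q : Set G)) = q * Nat.card T
  cG : Nat.card G = q * Nat.card T * (q + 1)
  ww : w * w = 1
  winv : ∀ x ∈ T, w * x * w⁻¹ = x⁻¹
  wN : w ∉ normalizer (Q : Set G)
  conj : ∀ u v : G, orderOf u = 2 → orderOf v = 2 → IsConj u v

/-- coordinates: a faithful action on the projective line `Option F` (`none = ∞`) in which
`G = B ∪ B w B`, `B` acting by the maps `x ↦ a² x + c` and `w` by `x ↦ α / x`, `-α` a square. -/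
structure Coord (F : Type) [Field F] (φ : G →* Equiv.Perm (Option F)) (w : G) (α : F) : Prop where
  inj : Function.Injective φ
  aff : ∀ g : G, φ g none = none → ∃ a c : F, a ≠ 0 ∧ ∀ x : F, φ g (some x) = some (a ^ 2 * x + c)
  tr : ∀ c : F, ∃ g : G, φ g none = none ∧ ∀ x : F, φ g (some x) = some (x + c)
  sq : ∃ b : F, b ≠ 0 ∧ -α = b ^ 2
  w0 : φ w none = some 0
  w1 : φ w (some 0) = none
  wx : ∀ x : F, x ≠ 0 → φ w (some x) = some (α / x)

/-- coordinates before the identification of `w` -/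
structure Coord0 (F : Type) [Field F] (φ : G →* Equiv.Perm (Option F)) (w : G) : Prop where
  inj : Function.Injective φ
  aff : ∀ g : G, φ g none = none → ∃ a c : F, a ≠ 0 ∧ ∀ x : F, φ g (some x) = some (a ^ 2 * x + c)
  tr : ∀ c : F, ∃ g : G, φ g none = none ∧ ∀ x : F, φ g (some x) = some (x + c)
  sc : ∀ a : F, a ≠ 0 → ∃ g : G, φ g none = none ∧ (∀ x : F, φ g (some x) = some (a ^ 2 * x)) ∧
    w * g * w⁻¹ = g⁻¹
  w0 : φ w none = some 0
  ww : w * w = 1
  conj : ∀ u v : G, orderOf u = 2 → orderOf v = 2 → IsConj u v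

end Cfsg.Agent.BW
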