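import Cfsg.Agent.BW.Def

/-! Interface of the Brauer-Suzuki-Wall project (statements only; never import this file in a
shipped proof). -/

set_option autoImplicit false
set_option linter.unusedSectionVars false

namespace Cfsg.Agent.BW.I

open Subgroup Cfsg.Agent.FT Cfsg.Agent.BW
open scoped Classical

universe u
variable {G : Type u} [Group G] [Finite G]
variable {K Q T : Subgroup G} {t s w z : G} {q : ℕ}

/-! piece A0 (file BW/A0.lean, namespace Cfsg.Agent.BW.Hyp) -/
theorem A0_cardH (h : Hyp K t s) : Nat.card (centralizer ({t} : Set G)) = 2 * Nat.card K := sorry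
theorem A0_ti (h : Hyp K t s) {x g : G} (hx : x ∈ K) (h1 : x ≠ 1) (hg : g * x * g⁻¹ ∈ K) :
    g * t = t * g := sorry
theorem A0_nbK (h : Hyp K t s) (hz : z ∉ Zs K) : nb z = Nat.card K := sorry
theorem A0_cardZc (h : Hyp K t s) :
    2 * Nat.card K * (els (Zs K)ᶜ).card = Nat.card G * (Nat.card K - 1) := sorry
theorem A0_nb1 (h : Hyp K t s) : 2 * Nat.card K * nb (1 : G) = Nat.card G := sorry
theorem A0_sum : ∑ z ∈ els (Set.univ : Set G), nb z = nb (1 : G) ^ 2 := sorry
theorem A0_centZ (h : Hyp K t s) (hz : z ∈ Zs K) (h1 : z ≠ 1) {y : G} (hy : y * z = z * y) :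
    y ∈ Zs K := sorry
/-- a strongly real element of `Zs K` -/
theorem A0_real (h : Hyp K t s) (hz : z ∈ Zs K) (h1 : z ≠ 1) (h0 : nb z ≠ 0) :
    ∃ (A C : Subgroup G) (a : G), A = centralizer ({z} : Set G) ∧ nb z = Nat.card A ∧
      (∀ x ∈ A, x ≠ 1 → centralizer ({x} : Set G) = A ∧ nb x = nb z) ∧
      Nat.Coprime (Nat.card A) A.index ∧ Nat.Coprime (Nat.card A) (2 * Nat.card K) ∧
      orderOf a = 2 ∧ (∀ x ∈ A, a * x * a⁻¹ = x⁻¹) ∧ a ∈ C ∧ C ≤ normalizer (A : Set G) ∧
      (∃ g : G, g * t * g⁻¹ = a ∧ ∀ x ∈ C, g⁻¹ * x * g ∈ K) ∧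
      Nat.card (normalizer (A : Set G)) = Nat.card A * Nat.card C ∧
      (∀ g : G, ∀ x ∈ A, x ≠ 1 → g * x * g⁻¹ ∈ A → g ∈ normalizer (A : Set G)) ∧
      Nat.card A * Nat.card C * (els {y | ∃ g : G, ∃ x ∈ A, x ≠ 1 ∧ g * x * g⁻¹ = y}).card =
        Nat.card G * (Nat.card A - 1) := sorry

/-! piece C (files BW/C*.lean) -/
theorem C_main (h : Hyp K t s) : Plus K ∨ Minus K := sorry

/-! piece AP (file BW/AP.lean) -/
theorem AP_main (h : Hyp K t s) (hp : Plus K) :
    ∃ (Q T : Subgroup G) (w : G), ZH Q T w (2 * Nat.card K + 1) := sorry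

/-! piece AM (file BW/AM.lean) -/
theorem AM_main (h : Hyp K t s) (hp : Minus K) :
    ∃ (Q T : Subgroup G) (w : G), ZH Q T w (2 * Nat.card K - 1) := sorry

/-! piece Z0 (file BW/Z0.lean): coordinates -/
theorem Z0_main (h : ZH Q T w q) : ∃ (F : Type) (_ : Field F) (_ : Fintype F)
    (φ : G →* Equiv.Perm (Option F)), Fintype.card F = q ∧ Coord0 F φ w := sorry

/-! piece Z1 (file BW/Z1.lean): the action of `w` -/
theorem Z1_main {F : Type} [Field F] [Fintype F] {φ : G →* Equiv.Perm (Option F)}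
    (h : Coord0 F φ w) (ho : Odd (Fintype.card F)) : ∃ α : F, Coord F φ w α := sorry

/-! piece Z2 (file BW/Z2.lean): from coordinates to `PSL₂` -/
theorem Z2_main {F : Type} [Field F] [Fintype F] {φ : G →* Equiv.Perm (Option F)} {α : F}
    (h : Coord F φ w α) (hc : 2 * Nat.card G = Fintype.card F * (Fintype.card F ^ 2 - 1))
    (ho : Odd (Fintype.card F)) :
    Nonempty (G ≃* Matrix.ProjectiveSpecialLinearGroup (Fin 2) F) := sorry

/-! final theorem (file BW/Main.lean, `Cfsg.Agent.BW.main`) -/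
theorem main (h : Hyp K t s) : ∃ (F : Type) (_ : Field F) (_ : Fintype F),
    (Fintype.card F = 2 * Nat.card K + 1 ∨ Fintype.card F + 1 = 2 * Nat.card K) ∧
      Nonempty (G ≃* Matrix.ProjectiveSpecialLinearGroup (Fin 2) F) := sorry

end Cfsg.Agent.BW.I
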